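import Cfsg.Agent.H89.Balance.Move

/-!
Every map of `F` is a map of the slice of its source followed by a map of `F` on the whole source
times `T`.
-/

set_option autoImplicit false
set_option linter.unusedSectionVars false

open Cfsg Cfsg.FusionSystem
open scoped Pointwise

namespace H89.Bal

open H86 H86.SE

variable {Ω : Type*} [Group Ω] {S T : Subgroup Ω} [Finite S] {p : ℕ} [Fact p.Prime]
  {F : FusionSystem S} {E : FusionSystem T}

/-- `φ` factors through the slices over its source times `T`. -/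
def Dec (d : Data p F E) (P : Subgroup Ω) (φ : P →* Ω) : Prop :=
  ∀ (R : Subgroup Ω) (G : FusionSystem R), IsSlice d G → R = P ⊔ T →
    ∃ φ₀ ∈ G.Hom P, ∃ n ∈ F.Hom R, ∀ (x : P) (h : φ₀ x ∈ R), φ x = n ⟨φ₀ x, h⟩

/-- The image of the second factor of a factorization. -/
theorem dec_range (d : Data p F E) {P R : Subgroup Ω} {G : FusionSystem R} (hG : IsSlice d G)
    (hR : R = P ⊔ T) {φ φ₀ : P →* Ω} (h₀ : φ₀ ∈ G.Hom P) {n : R →* Ω} (hn : n ∈ F.Hom R)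
    (he : ∀ (x : P) (h : φ₀ x ∈ R), φ x = n ⟨φ₀ x, h⟩) :
    n.range = φ.range ⊔ T ∧ φ.range ≤ H85.img n φ₀.range := by
  have hv : ∀ x, φ₀ x ∈ P ⊔ T := fun x => hR ▸ H85.map_mem h₀ x
  have h1 : φ₀.range ⊔ T = R := (range_sup d (hG.subD _ h₀) hv).trans hR.symm
  have himg : H85.img n φ₀.range = φ.range := by
    refine le_antisymm (fun y hy => ?_) ?_
    · obtain ⟨z, ⟨x, hx⟩, rfl⟩ := H85.mem_img.1 hy
      refine ⟨x, (he x (H85.map_mem h₀ x)).trans ?_⟩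
      exact congrArg n (Subtype.ext hx)
    · rintro _ ⟨x, rfl⟩
      rw [he x (H85.map_mem h₀ x)]
      exact H85.apply_mem_img (φ := n) (x := (⟨φ₀ x, H85.map_mem h₀ x⟩ : R)) ⟨x, rfl⟩
  refine ⟨?_, himg.ge⟩
  rw [range_eq_img_sup d hn (H85.range_le h₀) hG.leT h1, himg]

theorem dec_of_prodSys (d : Data p F E) {P : Subgroup Ω} {φ : P →* Ω}
    (hφ : φ ∈ (prodSys d).Hom P) : Dec d P φ := fun _ _ hG hR => by
  obtain ⟨φ₀, h₀, n, hn, -, he⟩ := slice_res d (isSlice_prodSys d) hφ hG hR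
  exact ⟨φ₀, h₀, n, hn, he⟩

theorem dec_conj (d : Data p F E) {P : Subgroup Ω} {g : Ω} (hg : g ∈ S) :
    Dec d P (Cfsg.conjHom P g) := fun R G hG hR =>
  ⟨P.subtype, H85.id_mem G (hR ▸ le_sup_left), Cfsg.conjHom R g, F.conj_mem hG.leS hg,
    fun _ _ => rfl⟩

theorem dec_top (d : Data p F E) {P : Subgroup Ω} (hTP : T ≤ P) {φ : P →* Ω}
    (hφ : φ ∈ F.Hom P) : Dec d P φ := fun R G _ hR => by
  have hRP : R ≤ P := hR ▸ sup_le le_rfl hTP
  exact ⟨P.subtype, H85.id_mem G (hR ▸ le_sup_left), _, H85.restrict hφ hRP,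
    fun x _ => congrArg φ (Subtype.ext rfl)⟩

theorem dec_res (d : Data p F E) {P Q : Subgroup Ω} (hQP : Q ≤ P) (hP : P ≤ S) {φ : P →* Ω}
    (h : Dec d P φ) : Dec d Q (φ.comp (Subgroup.inclusion hQP)) := fun R G hG hR => by
  obtain ⟨G₁, hG₁⟩ := exists_slice d (le_sup_right : T ≤ P ⊔ T) (sup_le hP d.le_base)
  obtain ⟨φ₀, h₀, n, hn, he⟩ := h _ G₁ hG₁ rfl
  obtain ⟨φ₁, h₁, n', hn', hn'R, he'⟩ := slice_res d hG₁ (H85.restrict h₀ hQP) hG hR
  refine ⟨φ₁, h₁, _, F.comp_mem hn' hn hn'R, fun x hx => ?_⟩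
  rw [MonoidHom.comp_apply, he _ (H85.map_mem h₀ _)]
  exact congrArg n (Subtype.ext (he' x hx))

theorem dec_comp (d : Data p F E) {P Q : Subgroup Ω} {φ : P →* Ω} {ψ : Q →* Ω}
    (hQ : Q ≤ S) (h : Dec d P φ) (h' : Dec d Q ψ)
    (hm : ∀ x, φ x ∈ Q) : Dec d P (ψ.comp (φ.codRestrict Q hm)) := fun R G hG hR => by
  obtain ⟨φ₀, h₀, n, hn, he⟩ := h R G hG hR
  have hle : φ.range ≤ Q := by
    rintro _ ⟨x, rfl⟩
    exact hm x
  obtain ⟨hnr, himg⟩ := dec_range d hG hR h₀ hn he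
  obtain ⟨G₁, hG₁⟩ := exists_slice d (le_sup_right : T ≤ φ.range ⊔ T)
    (sup_le (hle.trans hQ) d.le_base)
  obtain ⟨ψ₀, k₀, m, hm', he'⟩ := dec_res d hle hQ h' _ G₁ hG₁ rfl
  obtain ⟨n', hn', hn'e⟩ := F.inv_mem hn
  have hle₁ : φ.range ⊔ T ≤ n.range := hnr.ge
  have hn'' := H85.restrict hn' hle₁
  have hn''r : (n'.comp (Subgroup.inclusion hle₁)).range = R := by
    refine le_antisymm ?_ fun y hy => ?_
    · rintro _ ⟨⟨z, hz⟩, rfl⟩
      obtain ⟨w, hw⟩ := hle₁ hz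
      show n' ⟨z, _⟩ ∈ R
      rw [show (⟨z, hle₁ hz⟩ : n.range) = ⟨n w, w, rfl⟩ from Subtype.ext hw.symm, hn'e]
      exact w.2
    · exact ⟨⟨n ⟨y, hy⟩, hnr.le ⟨_, rfl⟩⟩, hn'e ⟨y, hy⟩⟩
  obtain ⟨χ, hχ, hχe⟩ := inv_map d hG₁ hn'' hn''r hG k₀
  have hb : ∀ x : P, (n'.comp (Subgroup.inclusion hle₁))
      ⟨φ x, Subgroup.mem_sup_left ⟨x, rfl⟩⟩ = φ₀ x := fun x =>
    (congrArg n' (Subtype.ext (he x (H85.map_mem h₀ x)))).trans (hn'e ⟨φ₀ x, H85.map_mem h₀ x⟩)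
  have hdom : ∀ x : P,
      φ₀ x ∈ H85.img (n'.comp (Subgroup.inclusion hle₁)) φ.range := fun x => by
    rw [← hb x]
    exact H85.apply_mem_img (φ := n'.comp (Subgroup.inclusion hle₁))
      (x := (⟨φ x, Subgroup.mem_sup_left ⟨x, rfl⟩⟩ : ↥(φ.range ⊔ T))) ⟨x, rfl⟩
  refine ⟨_, G.comp_mem h₀ hχ hdom, _, F.comp_mem hn hm' (fun z => hnr.le ⟨z, rfl⟩), fun x hx => ?_⟩
  show ψ ⟨φ x, hm x⟩ = m ⟨n ⟨χ ⟨φ₀ x, hdom x⟩, hx⟩, _⟩
  have h2 := he' ⟨φ x, x, rfl⟩ (H85.map_mem k₀ _)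
  refine (Eq.trans ?_ h2).trans (congrArg m (Subtype.ext ?_))
  · exact congrArg ψ (Subtype.ext rfl)
  have h3 : χ ⟨φ₀ x, hdom x⟩ = (n'.comp (Subgroup.inclusion hle₁))
      ⟨ψ₀ ⟨φ x, x, rfl⟩, H85.map_mem k₀ _⟩ := by
    refine (congrArg χ (Subtype.ext ?_)).trans (hχe ⟨φ x, x, rfl⟩)
    exact (hb x).symm
  obtain ⟨w, hw⟩ := hle₁ (H85.map_mem k₀ (⟨φ x, x, rfl⟩ : φ.range))
  have h4 : (⟨χ ⟨φ₀ x, hdom x⟩, hx⟩ : R) = w := by
    refine Subtype.ext (h3.trans ((congrArg n' (Subtype.ext ?_)).trans (hn'e w)))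
    exact hw.symm
  exact hw.symm.trans (congrArg n h4).symm

theorem dec_inv (d : Data p F E) {P : Subgroup Ω} {φ : P →* Ω} (hφ : φ ∈ F.Hom P)
    (h : Dec d P φ) {ψ : φ.range →* Ω} (hψe : ∀ x : P, ψ ⟨φ x, x, rfl⟩ = (x : Ω)) :
    Dec d φ.range ψ := fun R' G' hG' hR' => by
  obtain ⟨G, hG⟩ := exists_slice d (le_sup_right : T ≤ P ⊔ T)
    (sup_le (H85.source_le hφ) d.le_base)
  obtain ⟨φ₀, h₀, n, hn, he⟩ := h _ G hG rfl
  obtain ⟨hnr, himg⟩ := dec_range d hG rfl h₀ hn he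
  obtain ⟨g, hg, hge⟩ := G.inv_mem h₀
  obtain ⟨χ, hχ, hχe⟩ := inv_map d hG hn (hnr.trans hR'.symm) hG' hg
  obtain ⟨n', hn', hn'e⟩ := F.inv_mem hn
  have hR'n : R' ≤ n.range := (hR'.trans hnr.symm).le
  refine ⟨_, H85.restrict hχ himg, _, H85.restrict hn' hR'n, ?_⟩
  rintro ⟨_, x, rfl⟩ hy
  rw [hψe]
  have h1 : χ (Subgroup.inclusion himg ⟨φ x, x, rfl⟩) =
      n ⟨(x : Ω), Subgroup.mem_sup_left x.2⟩ := by
    refine (congrArg χ (Subtype.ext ?_)).trans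
      ((hχe ⟨φ₀ x, x, rfl⟩).trans (congrArg n (Subtype.ext (hge x))))
    exact he x _
  exact ((congrArg n' (Subtype.ext h1)).trans (hn'e ⟨(x : Ω), Subgroup.mem_sup_left x.2⟩)).symm

/-- The system of the maps that factor. -/
def decSys (d : Data p F E) : FusionSystem S where
  Hom P := {φ | φ ∈ F.Hom P ∧ Dec d P φ}
  le_of_mem h := F.le_of_mem h.1
  injective_of_mem h := F.injective_of_mem h.1
  conj_mem hP hg := ⟨F.conj_mem hP hg, dec_conj d hg⟩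
  comp_mem := fun {P Q φ ψ} hφ hψ hm =>
    ⟨F.comp_mem hφ.1 hψ.1 hm, dec_comp d (H85.source_le hψ.1) hφ.2 hψ.2 hm⟩
  inv_mem := by
    intro P φ hφ
    obtain ⟨ψ, hψ, he⟩ := F.inv_mem hφ.1
    exact ⟨ψ, ⟨hψ, dec_inv d hφ.1 hφ.2 he⟩, he⟩

theorem decSys_sub (d : Data p F E) : (decSys d).IsSubsystemOf F := fun _ _ h => h.1

set_option maxHeartbeats 400000 in
/-- Every map of `F` factors. -/
theorem dec_all (d : Data p F E) {P : Subgroup Ω} {φ : P →* Ω} (hφ : φ ∈ F.Hom P) :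
    Dec d P φ := by
  suffices key : ∀ P : Subgroup Ω, P ≤ S → ∀ φ ∈ F.Hom P, φ ∈ (decSys d).Hom P from
    (key P (H85.source_le hφ) φ hφ).2
  refine induction_within d.hS d.satF (stronglyClosed_self F)
    (fun P φ => φ ∈ (decSys d).Hom P) ?_ ?_ ?_ ?_
  · exact fun P Q φ h _ _ hC => H85.restrict hC h
  · intro P Q R e e' _ _ _ _ _ h1 h2
    exact H85.IsFIso.trans (F := decSys d) h1 h2
  · intro P Q e _ _ _ h1
    exact H85.IsFIso.symm (F := decSys d) h1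
  intro U hUS hU hbig α hα
  have hUS' : U ≤ S := hU.1
  by_cases hTU : T ≤ U
  · exact ⟨(H85.mem_autGroup hUS').1 hα, dec_top d hTU ((H85.mem_autGroup hUS').1 hα)⟩
  have : Finite U := H85.finite_of_le hUS'
  by_cases hess : F.IsEssential p U
  · have hc : E.IsCentric (U ⊓ T) := centric_of_radical d d.le_base le_rfl d.satF (fun _ _ h => h)
      d.subE hess.1 (H85.isRadical_of_isEssential d.hS hess)
    have hnvD := nv_le_prodSys d hU hc
    have hM : normalizerIn T U ≤ normalizerIn S U := inf_le_inf_right _ d.le_base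
    obtain ⟨k, hk, β, hβ, hkβ, ψ, hψ, hψe⟩ := frattini_step d.hS d.satF hU (nv_le (E := E))
      (fun a ha k hk => nv_normal d hUS' ha hk) hα (normalizerIn T U) hM
      fun g hg => induced_le_nv d hUS' (H85.mem_autInducedBy.2 ⟨g, hg.1, fun _ => rfl⟩)
    have hlt : Nat.card U < Nat.card ↥(U ⊔ normalizerIn T U) := by
      have hlt' : U < U ⊔ T := lt_of_le_of_ne le_sup_left fun h => hTU (h ▸ le_sup_right)
      obtain ⟨g, hg, hgN, hgU⟩ := H85.exists_normalizing d.hS (sup_le hUS' d.le_base) hlt'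
      have : Finite ↥(U ⊔ normalizerIn T U) :=
        H85.finite_of_le (sup_le hUS' ((H85.normalizerIn_le _).trans d.le_base))
      refine H85.card_lt_of_lt (S := U ⊔ normalizerIn T U) le_rfl ?_
      refine lt_of_le_of_ne le_sup_left fun h => hgU ?_
      obtain ⟨u, hu, t, ht, rfl⟩ : g ∈ ((U : Set Ω) * (T : Set Ω) : Set Ω) := by
        rw [← Subgroup.coe_mul_of_left_le_normalizer_right U T fun x hx => by
          have := d.finT
          exact H85.mem_normalizer_of_conj fun t ht => d.conjT (hUS' hx) ht]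
        exact hg
      have htN : t ∈ Subgroup.normalizer (U : Set Ω) := by
        have h1 := (Subgroup.normalizer (U : Set Ω)).mul_mem
          ((Subgroup.normalizer (U : Set Ω)).inv_mem (Subgroup.le_normalizer hu)) hgN
        rwa [inv_mul_cancel_left] at h1
      exact U.mul_mem hu (h ▸ Subgroup.mem_sup_right ⟨ht, htN⟩)
    have hψS := H85.source_le hψ
    have hψd := hbig _ hψS hlt ψ hψ
    have hβd : H85.IsFIso (decSys d) β := H85.of_extend hψd le_sup_left hψe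
    have hkd : H85.IsFIso (decSys d) k :=
      ⟨(H85.mem_autGroup hUS').1 (nv_le hk),
        dec_of_prodSys d ((H85.mem_autGroup hUS').1 (hnvD hk))⟩
    rw [hkβ]
    exact hβd.trans hkd
  · have hUlt : U < S := lt_of_le_of_ne hUS' fun h => hTU (h ▸ d.le_base)
    refine (H85.mem_autGroup hUS').1 ((Subgroup.closure_le _).2 ?_
      (H85.autGroup_le_closure_extSet d.hS d.satF hUlt hU hess hα))
    rintro γ ⟨Q, hUQ, ψ, hψ, hext⟩
    have : Finite Q := H85.finite_of_le (H85.source_le hψ)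
    exact (H85.mem_autGroup hUS').2 (H85.of_extend
      (hbig Q (H85.source_le hψ) (H85.card_lt_of_lt (S := Q) le_rfl hUQ) ψ hψ) hUQ.le hext)

end H89.Bal
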