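import Cfsg.Agent.H86.SE.Extend
import Cfsg.Agent.H77.CharP
import Mathlib.GroupTheory.SemidirectProduct

/-!
Extending an automorphism of order prime to `p` so as to centralize a strongly closed subgroup.
-/

set_option autoImplicit false
set_option linter.unusedSectionVars false

open Cfsg Cfsg.FusionSystem
open scoped Pointwise

namespace H89.Bal

open H86 H86.SE

/-- Thompson's `A × B` lemma for an automorphism. -/
theorem aut_trivial_axb {p : ℕ} [hp : Fact p.Prime] {J : Type*} [Group J] [Finite J]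
    (hJ : IsPGroup p J) {Q A : Subgroup J} (hn : A ≤ Subgroup.normalizer (Q : Set J))
    {b : MulAut J} (hb : (orderOf b).Coprime p) (hbQ : ∀ q ∈ Q, b q ∈ Q)
    (hbA : ∀ a ∈ A, b a = a) (hfix : ∀ q ∈ Q, (∀ a ∈ A, a * q = q * a) → b q = q) :
    ∀ q ∈ Q, b q = q := by
  have : Finite (MulAut J) := Finite.of_injective (fun e => (e : J → J)) DFunLike.coe_injective
  let φ : Subgroup.zpowers b →* MulAut J := (Subgroup.zpowers b).subtype
  have : Finite (SemidirectProduct J (Subgroup.zpowers b) φ) :=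
    Finite.of_equiv _ SemidirectProduct.equivProd.symm
  let i : J →* SemidirectProduct J (Subgroup.zpowers b) φ := SemidirectProduct.inl
  let k : SemidirectProduct J (Subgroup.zpowers b) φ :=
    SemidirectProduct.inr ⟨b, Subgroup.mem_zpowers b⟩
  have hconj : ∀ q : J, k * i q * k⁻¹ = i (b q) := fun q => by
    show SemidirectProduct.inr _ * SemidirectProduct.inl q * (SemidirectProduct.inr _)⁻¹ = _
    rw [← map_inv, ← SemidirectProduct.inl_aut]
    rfl
  have hk : ¬ p ∣ orderOf k := by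
    rw [orderOf_injective _ SemidirectProduct.inr_injective, Subgroup.orderOf_mk]
    exact fun h => hp.1.one_lt.ne' (Nat.eq_one_of_dvd_coprimes hb h dvd_rfl)
  have hcomm : ∀ q : J, b q = q → k * i q = i q * k := fun q hq => by
    have h := hconj q
    rwa [hq, mul_inv_eq_iff_eq_mul] at h
  intro q hq
  have h := H77.thompson_AxB (P := Q.map i) (A := A.map i) (k := k)
    ((hJ.to_subgroup Q).map i) ((hJ.to_subgroup A).map i) ?_ hk ?_ ?_ ?_ (i q) ⟨q, hq, rfl⟩
  · have h2 := hconj q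
    rw [h, mul_inv_cancel_right] at h2
    exact (SemidirectProduct.inl_injective h2).symm
  · rintro _ ⟨a, ha, rfl⟩
    exact Subgroup.le_normalizer_map i ⟨a, hn ha, rfl⟩
  · rintro _ ⟨x, hx, rfl⟩
    rw [hconj]
    exact ⟨_, hbQ x hx, rfl⟩
  · rintro _ ⟨a, ha, rfl⟩
    exact hcomm a (hbA a ha)
  · rintro _ ⟨x, hx, rfl⟩ hxc
    refine hcomm x (hfix x hx fun a ha => ?_)
    have h1 := hxc (i a) ⟨a, ha, rfl⟩
    rw [← map_mul, ← map_mul] at h1
    exact SemidirectProduct.inl_injective h1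

variable {Ω : Type*} [Group Ω] {S : Subgroup Ω} [Finite S] {p : ℕ} [Fact p.Prime]
  {F : FusionSystem S}

set_option maxHeartbeats 1200000 in
/-- One step up. -/
theorem ext_step (hS : IsPGroup p S) (hF : F.IsSaturated p) {X W : Subgroup Ω}
    (hX : F.IsFullyCentralized X) (hW : F.StronglyClosed W) {Z : Subgroup Ω} (hXZ : X ≤ Z)
    (hZ : Z ≤ S) (hC : centralizerIn W X ≤ Z) {a : MulAut Z} (ha : a ∈ F.autGroup Z)
    (hord : (orderOf a).Coprime p) (haX : ∀ z : Z, (z : Ω) ∈ X → a z = z)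
    (haW : ∀ z : Z, (z : Ω) ∈ W → a z = z) :
    ∃ b ∈ F.autGroup (Z ⊔ normalizerIn W Z), (orderOf b).Coprime p ∧
      (∀ z : Z, (b (Subgroup.inclusion le_sup_left z) : Ω) = a z) ∧
      ∀ z : ↥(Z ⊔ normalizerIn W Z), (z : Ω) ∈ W → b z = z := by
  classical
  have hWS := hW.1
  have hmapW : ∀ {P : Subgroup Ω} {φ : P →* Ω}, φ ∈ F.Hom P → ∀ x : P,
      φ x ∈ W ↔ (x : Ω) ∈ W := fun {P φ} hφ x => by
    refine ⟨fun h => ?_, fun h => map_mem_of_stronglyClosed hW hφ h⟩
    obtain ⟨ψ, hψ, he⟩ := F.inv_mem hφ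
    have h' := map_mem_of_stronglyClosed hW hψ (x := ⟨φ x, x, rfl⟩) h
    rwa [he] at h'
  have : Finite Z := H85.finite_of_le hZ
  have : Finite (MulAut Z) := Finite.of_injective (fun e => (e : Z → Z)) DFunLike.coe_injective
  have : Finite W := H85.finite_of_le hWS
  have haF := (H85.mem_autGroup hZ).1 ha
  have hst : ∀ c ∈ F.autGroup Z, ∀ x : Z, (x : Ω) ∈ Z ⊓ W → ((c x : Z) : Ω) ∈ Z ⊓ W :=
    fun c hc x hx => ⟨(c x).2, (hmapW ((H85.mem_autGroup hZ).1 hc) x).2 hx.2⟩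
  -- the p-group of automorphisms normalised by `a`
  let A : Subgroup (MulAut Z) := F.autGroup Z ⊓ fixTriv (Z ⊓ W) Z
  have hA : IsPGroup p A := fun c => by
    obtain ⟨j, hj⟩ := fixTriv_pow hS hZ c.2.2
    exact ⟨j, Subtype.ext hj⟩
  have hAn : ∀ c ∈ F.autGroup Z, ∀ k ∈ A, c * k * c⁻¹ ∈ A := fun c hc k hk =>
    ⟨(F.autGroup Z).mul_mem ((F.autGroup Z).mul_mem hc hk.1) ((F.autGroup Z).inv_mem hc),
      fixTriv_conj (hst _ hc) (hst _ ((F.autGroup Z).inv_mem hc)) hk.2⟩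
  let Rg : Subgroup (MulAut Z) := (Cfsg.Inn Z ⊔ autInducedBy (normalizerIn W Z) Z) ⊔ A
  have hindS : autInducedBy (normalizerIn W Z) Z ≤ autInducedBy S Z := fun k hk => by
    obtain ⟨g, hg, hgk⟩ := H85.mem_autInducedBy.1 hk
    exact H85.mem_autInducedBy.2 ⟨g, hWS hg.1, hgk⟩
  have hgenS : Cfsg.Inn Z ⊔ autInducedBy (normalizerIn W Z) Z ≤ autInducedBy S Z :=
    sup_le (H85.inn_le_autInducedBy hZ) hindS
  have hgenF := hgenS.trans (H85.autInducedBy_le_autGroup F hZ)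
  have hRgF : Rg ≤ F.autGroup Z := sup_le hgenF inf_le_left
  have hRgp : IsPGroup p Rg :=
    ((H85.autInducedBy_isPGroup hS Z).to_le hgenS).to_sup_of_normal_right' hA fun c hc =>
      Subgroup.mem_normalizer_iff.2 fun k => ⟨hAn c (hgenF hc) k, fun hk => by
        have h1 := hAn c⁻¹ ((F.autGroup Z).inv_mem (hgenF hc)) _ hk
        rwa [show c⁻¹ * (c * k * c⁻¹) * c⁻¹⁻¹ = k by group] at h1⟩
  have hRga : ∀ k ∈ Rg, a * k * a⁻¹ ∈ Rg := by
    have hle : Rg ≤ Rg.comap (MulAut.conj a).toMonoidHom := by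
      refine sup_le (sup_le ?_ ?_) fun k hk => Subgroup.mem_sup_right (hAn a ha k hk)
      · rintro _ ⟨z, rfl⟩
        refine Subgroup.mem_sup_left (Subgroup.mem_sup_left ⟨a z, MulEquiv.ext fun x => ?_⟩)
        show a z * x * (a z)⁻¹ = a (z * a⁻¹ x * z⁻¹)
        rw [map_mul, map_mul, map_inv, MulAut.apply_inv_self]
      · intro k hk
        obtain ⟨g, hg, hgk⟩ := H85.mem_autInducedBy.1 hk
        show a * k * a⁻¹ ∈ Rg
        have hkfix : k ∈ trivMod (Z ⊓ W) Z := fun x => by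
          refine ⟨Z.mul_mem (Z.inv_mem x.2) (k x).2, ?_⟩
          rw [hgk x, show (x : Ω)⁻¹ * (g * (x : Ω) * g⁻¹) =
            ((x : Ω)⁻¹ * g * (x : Ω)⁻¹⁻¹) * g⁻¹ by group]
          exact W.mul_mem (normal_of_stronglyClosed F hW (S.inv_mem (hZ x.2)) hg.1)
            (W.inv_mem hg.1)
        have hc : a * k * a⁻¹ * k⁻¹ ∈ A := by
          refine ⟨(F.autGroup Z).mul_mem ((F.autGroup Z).mul_mem
            ((F.autGroup Z).mul_mem ha (hgenF (Subgroup.mem_sup_right hk)))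
            ((F.autGroup Z).inv_mem ha))
            ((F.autGroup Z).inv_mem (hgenF (Subgroup.mem_sup_right hk))), fun x hx => ?_, ?_⟩
          · have h1 : ((k⁻¹ x : Z) : Ω) ∈ Z ⊓ W :=
              hst _ ((F.autGroup Z).inv_mem (hgenF (Subgroup.mem_sup_right hk))) x hx
            have h2 : a⁻¹ (k⁻¹ x) = k⁻¹ x :=
              a.injective (by rw [MulAut.apply_inv_self, haW _ h1.2])
            rw [MulAut.mul_apply, MulAut.mul_apply, MulAut.mul_apply, h2, MulAut.apply_inv_self,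
              haW x hx.2]
          · refine (trivMod (Z ⊓ W) Z).mul_mem ?_ ((trivMod (Z ⊓ W) Z).inv_mem hkfix)
            intro x
            have h1 := hst a ha ((a⁻¹ x)⁻¹ * k (a⁻¹ x)) (hkfix (a⁻¹ x))
            rw [map_mul, map_inv, MulAut.apply_inv_self] at h1
            exact h1
        have h2 := Rg.mul_mem (Subgroup.mem_sup_right hc)
          (Subgroup.mem_sup_left (Subgroup.mem_sup_right hk))
        rwa [inv_mul_cancel_right] at h2
    exact fun k hk => hle hk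
  -- move to a fully normalized position
  obtain ⟨Z', hZZ', hZ'⟩ := H85.exists_fullyNormalized F hZ
  obtain ⟨e₀, he₀⟩ := H85.isConj_iff.1 hZZ'
  have hK : Rg.map (MulAut.congr e₀).toMonoidHom ≤ F.autGroup Z' := by
    rintro _ ⟨k, hk, rfl⟩
    exact (H85.mem_autGroup hZ'.1).2
      (((he₀.symm.trans ((H85.mem_autGroup hZ).1 (hRgF hk))).trans he₀).congr fun _ => rfl)
  obtain ⟨β, hβ, hβc⟩ := H85.fullyAutomized_conj
    (H85.fullyAutomized_of_fullyNormalized hS hF hZ') hK (hRgp.map _)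
  let e : Z ≃* Z' := e₀.trans β
  have he : H85.IsFIso F e := he₀.trans ((H85.mem_autGroup hZ'.1).1 hβ)
  let R' : Subgroup (MulAut Z') := Rg.map (MulAut.congr e).toMonoidHom
  have hR'S : R' ≤ autInducedBy S Z' := by
    rintro _ ⟨k, hk, rfl⟩
    have h := hβc _ ⟨k, hk, rfl⟩
    rwa [show (MulAut.congr e).toMonoidHom k =
      β * (MulAut.congr e₀).toMonoidHom k * β⁻¹ from MulEquiv.ext fun _ => rfl]
  set H₀ := Z ⊔ normalizerIn W Z with hH₀
  have hH₀S : H₀ ≤ S := sup_le hZ ((H85.normalizerIn_le Z).trans hWS)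
  have hH₀R : H₀ ≤ preim S Z Rg := sup_le (le_preim hZ (le_sup_left.trans le_sup_left)) fun g hg =>
    mem_preim.2 ⟨⟨hWS hg.1, hg.2⟩, Subgroup.mem_sup_left (Subgroup.mem_sup_right
      (H85.mem_autInducedBy.2 ⟨g, hg.1 |> fun h => ⟨h, hg.2⟩, fun _ => rfl⟩))⟩
  obtain ⟨ψ₀, hψ₀, hext₀⟩ :=
    H85.receptive_extend (H85.receptive_of_fullyNormalized hS hF hZ') he
  have hH₀e : H₀ ≤ extender S Z (Z'.subtype.comp e.toMonoidHom) := by
    intro g hg
    obtain ⟨hgN, hgR⟩ := mem_preim.1 (hH₀R hg)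
    obtain ⟨h, hh, hhe⟩ := H85.mem_autInducedBy.1 (hR'S ⟨_, hgR, rfl⟩)
    refine H85.mem_extender.2 ⟨hgN.1, hgN.2, h, hh, fun x hx => ?_⟩
    refine Eq.trans ?_ (hhe (e x))
    show (e ⟨_, hx⟩ : Ω) = (e ((H85.conjAut S Z ⟨g, hgN⟩) (e.symm (e x))) : Ω)
    rw [e.symm_apply_apply]
    rfl
  have hψ := H85.restrict hψ₀ hH₀e
  set ψ := ψ₀.comp (Subgroup.inclusion hH₀e) with hψdef
  have hψe : ∀ z : Z, ψ (Subgroup.inclusion le_sup_left z) = (e z : Ω) := fun z => hext₀ z z.2 _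
  set J := preim S Z' R' with hJdef
  have hJS : J ≤ S := (preim_le R').trans (H85.normalizerIn_le Z')
  have : Finite J := H85.finite_of_le hJS
  have hZ'J : Z' ≤ J := le_preim hZ'.1 fun k hk => by
    obtain ⟨y, rfl⟩ := hk
    obtain ⟨x, rfl⟩ := e.surjective y
    refine ⟨MulAut.conj x, Subgroup.mem_sup_left (Subgroup.mem_sup_left ⟨x, rfl⟩),
      MulEquiv.ext fun w => ?_⟩
    obtain ⟨u, rfl⟩ := e.surjective w
    show e (x * e.symm (e u) * x⁻¹) = e x * e u * (e x)⁻¹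
    rw [e.symm_apply_apply, map_mul, map_mul, map_inv]
  have hψJ : ∀ g : H₀, ψ g ∈ J := fun g => by
    obtain ⟨hgN, hgR⟩ := mem_preim.1 (hH₀R g.2)
    have hψN : ψ g ∈ normalizerIn S Z' := ⟨H85.map_mem hψ g,
      have := H85.finite_of_le hZ'.1
      H85.extend_maps_normalizer (e := e) le_sup_left hψe hgN.2⟩
    refine mem_preim.2 ⟨hψN, ?_⟩
    rw [H85.conjAut_map (e := e) le_sup_left hψe g hgN hψN]
    exact ⟨_, hgR, rfl⟩
  -- the automorphism on `J`
  set a' := MulAut.congr e a with ha'def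
  have ha'e : ∀ z : Z, a' (e z) = e (a z) := fun z => by
    show e (a (e.symm (e z))) = _
    rw [e.symm_apply_apply]
  have ha'F : H85.IsFIso F a' := ((he.symm.trans haF).trans he).congr fun _ => rfl
  have ha'R : ∀ k ∈ R', a' * k * a'⁻¹ ∈ R' := by
    rintro _ ⟨k, hk, rfl⟩
    refine ⟨a * k * a⁻¹, hRga k hk, ?_⟩
    show MulAut.congr e (a * k * a⁻¹) = _
    rw [map_mul, map_mul, map_inv]
    rfl
  obtain ⟨f₀, hf₀, hf₀e⟩ :=
    H85.receptive_extend (H85.receptive_of_fullyNormalized hS hF hZ') ha'F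
  have hJe : J ≤ extender S Z' (Z'.subtype.comp a'.toMonoidHom) := by
    intro g hg
    obtain ⟨hgN, hgR⟩ := mem_preim.1 hg
    obtain ⟨h, hh, hhe⟩ := H85.mem_autInducedBy.1 (hR'S (ha'R _ hgR))
    refine H85.mem_extender.2 ⟨hgN.1, hgN.2, h, hh, fun x hx => ?_⟩
    refine Eq.trans ?_ (hhe (a' x))
    rw [MulAut.mul_apply, MulAut.mul_apply, MulAut.inv_apply_self]
    exact congrArg (fun z : Z' => (a' z : Ω)) (Subtype.ext rfl)
  have hf := H85.restrict hf₀ hJe
  have hfe : ∀ z : Z', (f₀.comp (Subgroup.inclusion hJe)) (Subgroup.inclusion hZ'J z) = (a' z : Ω) :=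
    fun z => hf₀e z z.2 _
  have hfJ : ∀ g : J, (f₀.comp (Subgroup.inclusion hJe)) g ∈ J := fun g => by
    obtain ⟨hgN, hgR⟩ := mem_preim.1 g.2
    have hgN' : (f₀.comp (Subgroup.inclusion hJe)) g ∈ normalizerIn S Z' := ⟨H85.map_mem hf g,
      have := H85.finite_of_le hZ'.1
      H85.extend_maps_normalizer (e := a') hZ'J hfe hgN.2⟩
    refine mem_preim.2 ⟨hgN', ?_⟩
    rw [H85.conjAut_map (e := a') hZ'J hfe g hgN hgN', H85.congr_eq_conj]
    exact ha'R _ hgR
  have hfr := range_eq_self_of_le F hf (by rintro _ ⟨g, rfl⟩; exact hfJ g)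
  set f : MulAut J := autOfHom _ (F.injective_of_mem hf) hfr with hfdef
  have : Finite (MulAut J) := Finite.of_injective (fun e => (e : J → J)) DFunLike.coe_injective
  have hord' : (orderOf a').Coprime p := by rwa [ha'def, MulEquiv.orderOf_eq]
  obtain ⟨n, hn, han⟩ := exists_exp_coprime (p := p) f a' hord'
  have hpow : ∀ (i : ℕ) (z : Z'),
      ((f ^ i) (Subgroup.inclusion hZ'J z) : Ω) = ((a' ^ i) z : Ω) := by
    intro i
    induction i with
    | zero => intro z; rfl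
    | succ i ih =>
      intro z
      rw [pow_succ', pow_succ', MulAut.mul_apply, MulAut.mul_apply,
        show (f ^ i) (Subgroup.inclusion hZ'J z) = Subgroup.inclusion hZ'J ((a' ^ i) z) from
          Subtype.ext (ih z)]
      exact hfe _
  set b' := f ^ n with hb'def
  have hb'F : b' ∈ F.autGroup J := pow_mem (autOfHom_mem F hf hfr) n
  have hb'e : ∀ z : Z', (b' (Subgroup.inclusion hZ'J z) : Ω) = (a' z : Ω) := fun z => by
    rw [hb'def, hpow, han]
  have hb'W : ∀ q : J, (q : Ω) ∈ W → ((b' q : J) : Ω) ∈ W := fun q hq =>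
    (hmapW ((H85.mem_autGroup hJS).1 hb'F) q).2 hq
  -- the centralizer of the image of `X` in `W`
  set eX := H85.img (Z'.subtype.comp e.toMonoidHom) X with heX
  have heXc : centralizerIn W eX ≤ Z' := by
    have hiso : F.IsConj X eX := H85.isConj_img he hXZ
    obtain ⟨g, hg⟩ := H85.isConj_iff.1 (H85.isConj_symm hiso)
    obtain ⟨χ, hχ, hχe⟩ := H85.receptive_extend
      (H85.receptive_of_fullyCentralized hS hF hX) hg
    have hXX := H85.le_extender hg.left_le fun x => H85.map_mem hg x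
    have hCS : centralizerIn W eX ≤ centralizerIn S eX := inf_le_inf_right _ hWS
    have hCX : centralizerIn W eX ≤ extender S eX (X.subtype.comp g.toMonoidHom) :=
      hCS.trans (H85.centralizerIn_le_extender _ _)
    have : Finite (centralizerIn W X) := H85.finite_of_le ((H85.centralizerIn_le X).trans hWS)
    have : Finite (centralizerIn W eX) :=
      H85.finite_of_le ((H85.centralizerIn_le eX).trans hWS)
    have hle : H85.img (Z'.subtype.comp e.toMonoidHom) (centralizerIn W X) ≤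
        centralizerIn W eX := by
      intro y hy
      obtain ⟨c, hc, rfl⟩ := H85.mem_img.1 hy
      refine H85.mem_centralizerIn.2 ⟨(hmapW he c).2 hc.1, fun u hu => ?_⟩
      obtain ⟨x, hx, rfl⟩ := H85.mem_img.1 hu
      rw [← map_mul, ← map_mul]
      exact congrArg _ (Subtype.ext ((H85.mem_centralizerIn.1 hc).2 _ hx))
    have hcard : Nat.card (centralizerIn W eX) ≤ Nat.card (centralizerIn W X) :=
      Nat.card_le_card_of_injective (fun c : centralizerIn W eX =>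
        (⟨χ (Subgroup.inclusion hCX c), (hmapW hχ _).2 c.2.1,
          (H85.extend_maps_centralizer (e := g) hXX (fun x => hχe x x.2 _) (H85.map_mem hχ _)
            (g := Subgroup.inclusion hCX c) (hCS c.2)).2⟩ : centralizerIn W X))
        fun c c' h => Subgroup.inclusion_injective hCX
          (F.injective_of_mem hχ (congrArg Subtype.val h))
    have heq := Subgroup.eq_of_le_of_card_ge hle
      (hcard.trans (H85.isConj_card (H85.isConj_img he hC)).le)
    rw [← heq]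
    rintro _ ⟨c, -, rfl⟩
    exact (e c).2
  have hfixW : ∀ q : J, (q : Ω) ∈ W → b' q = q := by
    have hfix' : ∀ z : Z', (z : Ω) ∈ W → a' z = z := fun z hz => by
      obtain ⟨u, rfl⟩ := e.surjective z
      rw [ha'e, haW u ((hmapW he u).1 hz)]
    have hb'X : ∀ x : J, (x : Ω) ∈ eX → b' x = x := fun x hx => by
      obtain ⟨u, hu, hux⟩ := H85.mem_img.1 hx
      rw [show x = Subgroup.inclusion hZ'J (e u) from Subtype.ext hux.symm]
      refine Subtype.ext ((hb'e _).trans ?_)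
      rw [ha'e, haX u hu]
      rfl
    intro q hq
    refine aut_trivial_axb (hS.to_le hJS) (Q := W.subgroupOf J) (A := eX.subgroupOf J)
      (fun x _ => ?_) hn hb'W hb'X (fun w hw hcomm => ?_) q hq
    · refine Subgroup.mem_normalizer_iff.2 fun w => ⟨fun hw => ?_, fun hw => ?_⟩
      · exact normal_of_stronglyClosed F hW (hJS x.2) hw
      · have h1 := normal_of_stronglyClosed F hW (S.inv_mem (hJS x.2))
          (show ((x : Ω) * (w : Ω) * (x : Ω)⁻¹) ∈ W from hw)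
        show (w : Ω) ∈ W
        rwa [show (x : Ω)⁻¹ * ((x : Ω) * (w : Ω) * (x : Ω)⁻¹) * (x : Ω)⁻¹⁻¹ = (w : Ω) by group]
          at h1
    · have hwZ : (w : Ω) ∈ Z' := heXc (H85.mem_centralizerIn.2 ⟨hw, fun u hu => by
        have huJ : u ∈ J := hZ'J (by obtain ⟨c, -, rfl⟩ := H85.mem_img.1 hu; exact (e c).2)
        exact congrArg Subtype.val (hcomm ⟨u, huJ⟩ hu)⟩)
      rw [show w = Subgroup.inclusion hZ'J ⟨w, hwZ⟩ from Subtype.ext rfl]
      refine Subtype.ext ((hb'e _).trans ?_)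
      rw [hfix' ⟨(w : Ω), hwZ⟩ hw]
      rfl
  -- pull back to `H₀`
  have hrJ : ψ.range ≤ J := by
    rintro _ ⟨g, rfl⟩
    exact hψJ g
  let L : Subgroup H₀ :=
    { carrier := {g | (b' ⟨ψ g, hψJ g⟩ : Ω) ∈ ψ.range}
      one_mem' := by
        show (b' ⟨ψ 1, _⟩ : Ω) ∈ ψ.range
        rw [show (⟨ψ 1, hψJ 1⟩ : J) = 1 from Subtype.ext (map_one ψ), map_one]
        exact one_mem _
      mul_mem' := fun {g h} hg hh => by
        show (b' ⟨ψ (g * h), _⟩ : Ω) ∈ ψ.range
        rw [show (⟨ψ (g * h), hψJ (g * h)⟩ : J) = ⟨ψ g, hψJ g⟩ * ⟨ψ h, hψJ h⟩ from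
          Subtype.ext (map_mul ψ g h), map_mul]
        exact ψ.range.mul_mem hg hh
      inv_mem' := fun {g} hg => by
        show (b' ⟨ψ g⁻¹, _⟩ : Ω) ∈ ψ.range
        rw [show (⟨ψ g⁻¹, hψJ g⁻¹⟩ : J) = ⟨ψ g, hψJ g⟩⁻¹ from Subtype.ext (map_inv ψ g), map_inv]
        exact ψ.range.inv_mem hg }
  have hL : H₀ ≤ L.map H₀.subtype := by
    refine sup_le (fun z hz => ⟨⟨z, Subgroup.mem_sup_left hz⟩, ?_, rfl⟩)
      (fun g hg => ⟨⟨g, Subgroup.mem_sup_right hg⟩, ?_, rfl⟩)
    · refine ⟨Subgroup.inclusion le_sup_left (a ⟨z, hz⟩), (hψe _).trans ?_⟩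
      rw [← ha'e, ← hb'e]
      exact congrArg (fun y : J => (b' y : Ω)) (Subtype.ext (hψe ⟨z, hz⟩).symm)
    · show (b' ⟨ψ _, _⟩ : Ω) ∈ ψ.range
      rw [hfixW ⟨ψ ⟨g, Subgroup.mem_sup_right hg⟩, hψJ _⟩ ((hmapW hψ _).2 hg.1)]
      exact ⟨_, rfl⟩
  have hinv : ∀ y : ψ.range, ((b' (Subgroup.inclusion hrJ y) : J) : Ω) ∈ ψ.range := by
    rintro ⟨_, g, rfl⟩
    obtain ⟨u, hu, hug⟩ := hL g.2
    obtain rfl : u = g := Subtype.ext hug
    exact hu
  obtain ⟨b₁, hb₁, hb₁o, hb₁e⟩ : ∃ b₁ ∈ F.autGroup ψ.range, orderOf b₁ ∣ orderOf b' ∧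
      ∀ y : ψ.range, (b₁ y : Ω) = b' (Subgroup.inclusion hrJ y) := by
    have hr := H85.restrict ((H85.mem_autGroup hJS).1 hb'F) hrJ
    have : Finite ψ.range := H85.finite_of_le (hrJ.trans hJS)
    have hrr : ((J.subtype.comp b'.toMonoidHom).comp (Subgroup.inclusion hrJ)).range = ψ.range :=
      range_eq_self_of_le F hr (by
        rintro _ ⟨y, rfl⟩
        exact hinv y)
    let k' := autOfHom _ (F.injective_of_mem hr) hrr
    have hk : ∀ (m : ℕ) (y : ψ.range),
        ((k' ^ m) y : Ω) = (b' ^ m) (Subgroup.inclusion hrJ y) := by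
      intro m
      induction m with
      | zero => intro y; rfl
      | succ m ih =>
        intro y
        rw [pow_succ', pow_succ', MulAut.mul_apply, MulAut.mul_apply,
          show (b' ^ m) (Subgroup.inclusion hrJ y) = Subgroup.inclusion hrJ ((k' ^ m) y) from
            Subtype.ext (ih y).symm]
        rfl
    refine ⟨k', autOfHom_mem F hr hrr, orderOf_dvd_of_pow_eq_one
      (MulEquiv.ext fun y => Subtype.ext ?_), fun y => rfl⟩
    rw [hk, pow_orderOf_eq_one]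
    rfl
  let r : H₀ ≃* ψ.range := H85.isoOf ψ hψ rfl
  have hr : H85.IsFIso F r := H85.isFIso_isoOf ψ hψ rfl
  refine ⟨MulAut.congr r.symm b₁, (H85.mem_autGroup hH₀S).2
    (((hr.trans ((H85.mem_autGroup (hrJ.trans hJS)).1 hb₁)).trans hr.symm).congr fun _ => rfl),
    ?_, fun z => ?_, fun g hg => ?_⟩
  · rw [MulEquiv.orderOf_eq]
    exact Nat.Coprime.coprime_dvd_left hb₁o hn
  · have h1 : b₁ (r (Subgroup.inclusion le_sup_left z)) =
        r (Subgroup.inclusion le_sup_left (a z)) := by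
      refine Subtype.ext ((hb₁e _).trans ?_)
      rw [show Subgroup.inclusion hrJ (r (Subgroup.inclusion le_sup_left z)) =
        Subgroup.inclusion hZ'J (e z) from Subtype.ext (hψe z), hb'e, ha'e]
      exact (hψe (a z)).symm
    show ((r.symm (b₁ (r _)) : H₀) : Ω) = _
    rw [h1, r.symm_apply_apply]
    rfl
  · have h1 : b₁ (r g) = r g := by
      refine Subtype.ext ((hb₁e _).trans ?_)
      rw [hfixW _ ((hmapW hψ g).2 hg)]
      rfl
    show r.symm (b₁ (r g)) = g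
    rw [h1, r.symm_apply_apply]

/-- An automorphism of order prime to `p` fixing `X` and the part in `W` extends so as to
centralize `W`. -/
theorem ext_closed (hS : IsPGroup p S) (hF : F.IsSaturated p) {X W : Subgroup Ω}
    (hX : F.IsFullyCentralized X) (hW : F.StronglyClosed W) {Z : Subgroup Ω} (hXZ : X ≤ Z)
    (hZ : Z ≤ S) (hC : centralizerIn W X ≤ Z) {a : MulAut Z} (ha : a ∈ F.autGroup Z)
    (hord : (orderOf a).Coprime p) (haX : ∀ z : Z, (z : Ω) ∈ X → a z = z)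
    (haW : ∀ z : Z, (z : Ω) ∈ W → a z = z) :
    ∃ ψ ∈ F.Hom (Z ⊔ W), (∀ z : Z, ψ (Subgroup.inclusion le_sup_left z) = a z) ∧
      ∀ w : W, ψ (Subgroup.inclusion le_sup_right w) = w := by
  have hWS := hW.1
  have : Finite W := H85.finite_of_le hWS
  suffices main : ∀ (m : ℕ) (Z : Subgroup Ω) (a : MulAut Z),
      Nat.card W - Nat.card ↥(Z ⊓ W) ≤ m → X ≤ Z → Z ≤ S → centralizerIn W X ≤ Z →
      a ∈ F.autGroup Z → (orderOf a).Coprime p → (∀ z : Z, (z : Ω) ∈ X → a z = z) →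
      (∀ z : Z, (z : Ω) ∈ W → a z = z) →
      ∃ ψ ∈ F.Hom (Z ⊔ W), (∀ z : Z, ψ (Subgroup.inclusion le_sup_left z) = a z) ∧
        ∀ w : W, ψ (Subgroup.inclusion le_sup_right w) = w from
    main _ Z a le_rfl hXZ hZ hC ha hord haX haW
  intro m
  induction m using Nat.strong_induction_on with
  | _ m ih =>
  intro Z a hm hXZ hZ hC ha hord haX haW
  by_cases hWZ : W ≤ Z
  · refine ⟨_, H85.restrict ((H85.mem_autGroup hZ).1 ha) (sup_le le_rfl hWZ), fun z => rfl,
      fun w => ?_⟩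
    exact congrArg Subtype.val (haW ⟨(w : Ω), hWZ w.2⟩ w.2)
  obtain ⟨b, hb, hbo, hbe, hbW⟩ := ext_step hS hF hX hW hXZ hZ hC ha hord haX haW
  have hH₀S : Z ⊔ normalizerIn W Z ≤ S := sup_le hZ ((H85.normalizerIn_le Z).trans hWS)
  have hlt : Nat.card ↥(Z ⊓ W) < Nat.card ↥((Z ⊔ normalizerIn W Z) ⊓ W) := by
    have : Finite ↥((Z ⊔ normalizerIn W Z) ⊓ W) := H85.finite_of_le (inf_le_left.trans hH₀S)
    refine H85.card_lt_of_lt (S := (Z ⊔ normalizerIn W Z) ⊓ W) le_rfl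
      (lt_of_le_of_ne (inf_le_inf_right W le_sup_left) fun h => hWZ ?_)
    by_contra hn
    have hlt' : Z < Z ⊔ W := lt_of_le_of_ne le_sup_left fun h' => hn (h' ▸ le_sup_right)
    obtain ⟨g, hg, hgN, hgZ⟩ := H85.exists_normalizing hS (sup_le hZ hWS) hlt'
    have hnW : Z ≤ Subgroup.normalizer (W : Set Ω) := fun x hx =>
      H85.mem_normalizer_of_conj fun t ht => normal_of_stronglyClosed F hW (hZ hx) ht
    obtain ⟨u, hu, t, ht, rfl⟩ : g ∈ ((Z : Set Ω) * (W : Set Ω) : Set Ω) := by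
      rw [← Subgroup.coe_mul_of_left_le_normalizer_right Z W hnW]
      exact hg
    have htN : t ∈ Subgroup.normalizer (Z : Set Ω) := by
      have h1 := (Subgroup.normalizer (Z : Set Ω)).mul_mem
        ((Subgroup.normalizer (Z : Set Ω)).inv_mem (Subgroup.le_normalizer hu)) hgN
      rwa [inv_mul_cancel_left] at h1
    exact hgZ (Z.mul_mem hu ((h.ge (⟨Subgroup.mem_sup_right ⟨ht, htN⟩, ht⟩ : t ∈ (Z ⊔ normalizerIn W Z) ⊓ W)).1))
  have hle : Nat.card ↥((Z ⊔ normalizerIn W Z) ⊓ W) ≤ Nat.card W := Subgroup.card_le_of_le inf_le_right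
  obtain ⟨ψ, hψ, hψe, hψW⟩ := ih _ (lt_of_lt_of_le (Nat.sub_lt_sub_left (hlt.trans_le hle) hlt) hm)
    (Z ⊔ normalizerIn W Z) b le_rfl (hXZ.trans le_sup_left) hH₀S (hC.trans le_sup_left) hb hbo
    (fun z hz => by
      refine Subtype.ext ?_
      rw [show z = Subgroup.inclusion le_sup_left (⟨(z : Ω), hXZ hz⟩ : Z) from Subtype.ext rfl,
        hbe, haX ⟨(z : Ω), hXZ hz⟩ hz]
      rfl)
    hbW
  refine ⟨_, H85.restrict hψ (sup_le_sup_right (le_sup_left : Z ≤ (Z ⊔ normalizerIn W Z)) W), fun z => ?_,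
    fun w => hψW w⟩
  exact (hψe (Subgroup.inclusion le_sup_left z)).trans (hbe z)

end H89.Bal
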