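import Cfsg.Agent.H89.Balance.Nv

/-!
Over a part in `T` centric in `E`, the elements of order prime to `p` of `nv` lie in the product.
-/

set_option autoImplicit false
set_option linter.unusedSectionVars false

open Cfsg Cfsg.FusionSystem

namespace H89.Bal

open H86 H86.SE

variable {Ω : Type*} [Group Ω] {S T : Subgroup Ω} [Finite S] {p : ℕ} [Fact p.Prime]
  {F : FusionSystem S} {E : FusionSystem T}

theorem finite_mulAut {P : Subgroup Ω} (hP : P ≤ S) : Finite (MulAut P) :=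
  have : Finite P := H85.finite_of_le hP
  Finite.of_injective (fun e => (e : P → P)) DFunLike.coe_injective

/-- Restriction of an automorphism to a subgroup it preserves. -/
theorem res_aut (G : FusionSystem S) {X P : Subgroup Ω} (hX : X ≤ S) (hPX : P ≤ X)
    {k : MulAut X} (hk : k ∈ G.autGroup X)
    (hm : ∀ x : P, ((k (Subgroup.inclusion hPX x) : X) : Ω) ∈ P) :
    ∃ k' ∈ G.autGroup P, orderOf k' ∣ orderOf k ∧
      ∀ x : P, (k' x : Ω) = k (Subgroup.inclusion hPX x) := by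
  have hr := H85.restrict ((H85.mem_autGroup hX).1 hk) hPX
  have : Finite P := H85.finite_of_le (hPX.trans hX)
  have hrr : ((X.subtype.comp k.toMonoidHom).comp (Subgroup.inclusion hPX)).range = P :=
    range_eq_self_of_le G hr (by
      rintro _ ⟨x, rfl⟩
      exact hm x)
  let k' := autOfHom _ (G.injective_of_mem hr) hrr
  have he : ∀ (n : ℕ) (x : P), ((k' ^ n) x : Ω) = (k ^ n) (Subgroup.inclusion hPX x) := by
    intro n
    induction n with
    | zero => intro x; rfl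
    | succ n ih =>
      intro x
      rw [pow_succ', pow_succ', MulAut.mul_apply, MulAut.mul_apply,
        show (k ^ n) (Subgroup.inclusion hPX x) = Subgroup.inclusion hPX ((k' ^ n) x) from
          Subtype.ext (ih x).symm]
      rfl
  refine ⟨k', autOfHom_mem G hr hrr, ?_, fun x => rfl⟩
  refine orderOf_dvd_of_pow_eq_one (MulEquiv.ext fun x => Subtype.ext ?_)
  rw [he, pow_orderOf_eq_one]
  rfl

theorem resU_orderOf {P : Subgroup Ω} {a : MulAut P} (ha : a ∈ trivMod T P) :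
    orderOf (resU a ha) ∣ orderOf a := by
  let f : trivMod T P →* MulAut ↥(P ⊓ T) :=
    MonoidHom.mk' (fun k => resU k.1 k.2) fun k l => resU_mul k.2 l.2
  have h := orderOf_map_dvd f ⟨a, ha⟩
  rwa [Subgroup.orderOf_mk] at h

/-- An extension in the product, when the part in `T` is fully normalized in it. -/
theorem exists_ext (d : Data p F E) {P : Subgroup Ω} (hP : P ≤ S) (hc : E.IsCentric (P ⊓ T))
    (hU : (prodSys d).IsFullyNormalized (P ⊓ T)) {a : MulAut P} (ha : a ∈ nv F E P)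
    (hord : (orderOf a).Coprime p) :
    ∃ b ∈ (prodSys d).autGroup P, b ∈ nv F E P ∧ (orderOf b).Coprime p ∧
      (∀ x : P, (x : Ω) ∈ T → b x = a x) ∧
      ∀ g ∈ centralizerIn S (P ⊓ T), ∀ k : MulAut P, (∀ x : P, (k x : Ω) = g * (x : Ω) * g⁻¹) →
        b * k * b⁻¹ * k⁻¹ ∈ autInducedBy (P ⊓ T) P := by
  have hat := nv_trivMod ha
  have hUS : P ⊓ T ≤ S := inf_le_left.trans hP
  set β : MulAut ↥(P ⊓ T) := resU a hat with hβdef
  have hβE := (H85.mem_autGroup hc.1).1 (nv_res ha)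
  have hβD : H85.IsFIso (prodSys d) β := subE_prodSys d _ hβE
  obtain ⟨ψ₀, hψ₀, hext⟩ := H85.receptive_extend
    (H85.receptive_of_fullyNormalized d.hS (isSaturated_prodSys d) hU) hβD
  set C := centralizerIn S (P ⊓ T) with hCdef
  set X := P ⊔ C with hXdef
  have hXS : X ≤ S := sup_le hP (H85.centralizerIn_le _)
  have : Finite X := H85.finite_of_le hXS
  have : Finite (MulAut X) := finite_mulAut hXS
  have hPX : P ≤ X := le_sup_left
  have hUX : P ⊓ T ≤ X := inf_le_left.trans hPX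
  have hXe : X ≤ extender S (P ⊓ T) ((P ⊓ T).subtype.comp β.toMonoidHom) := by
    refine sup_le (fun g hg => H85.mem_extender.2
      ⟨hP hg, (norm_inf d hP (H85.le_normalizerIn hP hg)).2, (a ⟨g, hg⟩ : Ω),
        hP (a ⟨g, hg⟩).2, fun x hx => ?_⟩) (H85.centralizerIn_le_extender _ _)
    show (a ⟨g * (x : Ω) * g⁻¹, hx.1⟩ : Ω) = _
    rw [show (⟨g * (x : Ω) * g⁻¹, hx.1⟩ : P) = ⟨g, hg⟩ * ⟨x, x.2.1⟩ * ⟨g, hg⟩⁻¹ from
      Subtype.ext rfl, map_mul, map_mul, map_inv]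
    rfl
  have hψU : ∀ u : ↥(P ⊓ T),
      ψ₀ (Subgroup.inclusion (hUX.trans hXe) u) = (β u : Ω) := fun u => hext u u.2 _
  -- the image of `g ∈ P` differs from `a g` by an element centralizing the part in `T`
  have hmove : ∀ (f : X →* Ω), (∀ u : ↥(P ⊓ T), f (Subgroup.inclusion hUX u) = (β u : Ω)) →
      ∀ x : P, f (Subgroup.inclusion hPX x) ∈ S →
        (a x : Ω)⁻¹ * f (Subgroup.inclusion hPX x) ∈ C := by
    intro f hf x hfx
    refine H85.mem_centralizerIn.2 ⟨S.mul_mem (S.inv_mem (hP (a x).2)) hfx, fun u hu => ?_⟩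
    obtain ⟨u', hu'⟩ := β.surjective ⟨u, hu⟩
    have hx : (x : Ω) * (u' : Ω) * (x : Ω)⁻¹ ∈ P ⊓ T :=
      H85.conj_mem_of_mem_normalizer (norm_inf d hP (H85.le_normalizerIn hP x.2)).2 u'.2
    have h1 := hf ⟨_, hx⟩
    rw [show Subgroup.inclusion hUX ⟨_, hx⟩ = Subgroup.inclusion hPX x *
        Subgroup.inclusion hUX u' * (Subgroup.inclusion hPX x)⁻¹ from Subtype.ext rfl,
      map_mul, map_mul, map_inv, hf, hu'] at h1
    have h2 : (β ⟨_, hx⟩ : Ω) = (a x : Ω) * u * (a x : Ω)⁻¹ := by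
      show (a ⟨(x : Ω) * (u' : Ω) * (x : Ω)⁻¹, hx.1⟩ : Ω) = _
      rw [show (⟨(x : Ω) * (u' : Ω) * (x : Ω)⁻¹, hx.1⟩ : P) = x * ⟨u', u'.2.1⟩ * x⁻¹ from
        Subtype.ext rfl, map_mul, map_mul, map_inv,
        show u = (β u' : Ω) from (congrArg Subtype.val hu').symm]
      rfl
    rw [h2] at h1
    change f (Subgroup.inclusion hPX x) * u * (f (Subgroup.inclusion hPX x))⁻¹ = _ at h1
    calc u * ((a x : Ω)⁻¹ * f (Subgroup.inclusion hPX x))
        = (a x : Ω)⁻¹ * ((a x : Ω) * u * (a x : Ω)⁻¹) * f (Subgroup.inclusion hPX x) := by group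
      _ = (a x : Ω)⁻¹ * f (Subgroup.inclusion hPX x) * u := by rw [← h1]; group
  have hfun := H85.restrict hψ₀ hXe
  have hfU : ∀ u : ↥(P ⊓ T),
      (ψ₀.comp (Subgroup.inclusion hXe)) (Subgroup.inclusion hUX u) = (β u : Ω) := hψU
  have hval : ∀ x : X, (ψ₀.comp (Subgroup.inclusion hXe)) x ∈ X := by
    have hle : X ≤ (X.comap (ψ₀.comp (Subgroup.inclusion hXe))).map X.subtype := by
      refine sup_le (fun g hg => ⟨⟨g, hPX hg⟩, ?_, rfl⟩)
        (fun g hg => ⟨⟨g, le_sup_right (α := Subgroup Ω) hg⟩, ?_, rfl⟩)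
      · have h1 := hmove _ hfU ⟨g, hg⟩ (H85.map_mem hfun _)
        have h2 := X.mul_mem (hPX (a ⟨g, hg⟩).2) (Subgroup.mem_sup_right h1)
        rwa [mul_inv_cancel_left] at h2
      · exact Subgroup.mem_sup_right (H85.extend_maps_centralizer (e := β) hUX hfU
          (H85.map_mem hfun _) hg)
    intro x
    obtain ⟨z, hz, hzx⟩ := hle x.2
    exact (Subtype.ext hzx : z = x) ▸ hz
  have hr : (ψ₀.comp (Subgroup.inclusion hXe)).range = X :=
    range_eq_self_of_le (prodSys d) hfun (by rintro _ ⟨x, rfl⟩; exact hval x)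
  set f : MulAut X := autOfHom _ ((prodSys d).injective_of_mem hfun) hr with hfdef
  have hfm : f ∈ (prodSys d).autGroup X := autOfHom_mem (prodSys d) hfun hr
  obtain ⟨n, hn, hβn⟩ := exists_exp_coprime (p := p) f β
    (Nat.Coprime.coprime_dvd_left (resU_orderOf hat) hord)
  have hpow : ∀ (i : ℕ) (u : ↥(P ⊓ T)),
      ((f ^ i) (Subgroup.inclusion hUX u) : Ω) = ((β ^ i) u : Ω) := by
    intro i
    induction i with
    | zero => intro u; rfl
    | succ i ih =>
      intro u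
      rw [pow_succ', pow_succ', MulAut.mul_apply, MulAut.mul_apply,
        show (f ^ i) (Subgroup.inclusion hUX u) = Subgroup.inclusion hUX ((β ^ i) u) from
          Subtype.ext (ih u)]
      exact hfU _
  have hψm : f ^ n ∈ (prodSys d).autGroup X := pow_mem hfm n
  have hψt : f ^ n ∈ trivMod T X :=
    (coprime_props d hXS (autGroup_le_naive d X hψm) hn).1
  have hψu : ∀ u : ↥(P ⊓ T), ((f ^ n) (Subgroup.inclusion hUX u) : Ω) = (β u : Ω) := fun u => by
    rw [hpow, hβn]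
  generalize f ^ n = ψ at hn hψm hψt hψu ⊢
  have hψP : ∀ x : P, (a x : Ω)⁻¹ * ψ (Subgroup.inclusion hPX x) ∈ P ⊓ T := by
    intro x
    have h1 := hmove (X.subtype.comp ψ.toMonoidHom) hψu x (hXS (ψ _).2)
    refine H85.centric_self hc (H85.mem_centralizerIn.2 ⟨?_, (H85.mem_centralizerIn.1 h1).2⟩)
    have h2 := T.mul_mem (T.inv_mem (hat x)) (hψt (Subgroup.inclusion hPX x))
    show (a x : Ω)⁻¹ * _ ∈ T
    rwa [show ((x : Ω)⁻¹ * (a x : Ω))⁻¹ * ((Subgroup.inclusion hPX x : Ω)⁻¹ *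
        (ψ (Subgroup.inclusion hPX x) : Ω)) =
        (a x : Ω)⁻¹ * (ψ (Subgroup.inclusion hPX x) : Ω) by
      show ((x : Ω)⁻¹ * (a x : Ω))⁻¹ * ((x : Ω)⁻¹ * _) = _
      group] at h2
  obtain ⟨b, hb, hbo, hbe⟩ := res_aut (prodSys d) hXS hPX hψm fun x => by
    have h1 := P.mul_mem (a x).2 (hψP x).1
    rwa [mul_inv_cancel_left] at h1
  have hbord := Nat.Coprime.coprime_dvd_left hbo hn
  refine ⟨b, hb, prodSys_coprime_mem_nv d hP hb hbord, hbord, fun x hx => ?_, ?_⟩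
  · refine Subtype.ext ((hbe x).trans ?_)
    exact hψu ⟨x, x.2, hx⟩
  intro g hg k hk
  have hgX : g ∈ X := le_sup_right (α := Subgroup Ω) hg
  set w : Ω := g⁻¹ * (ψ ⟨g, hgX⟩ : Ω) with hw
  have hψg : (ψ ⟨g, hgX⟩ : Ω) ∈ C :=
    H85.extend_maps_centralizer (e := β) (ψ := X.subtype.comp ψ.toMonoidHom) hUX hψu
      (hXS (ψ _).2) hg
  have hwU : w ∈ P ⊓ T := H85.centric_self hc (H85.mem_centralizerIn.2
    ⟨hψt ⟨g, hgX⟩, (H85.mem_centralizerIn.1 (C.mul_mem (C.inv_mem hg) hψg)).2⟩)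
  have hwg : (ψ ⟨g, hgX⟩ : Ω) * g⁻¹ = w := by
    have h2 := (H85.mem_centralizerIn.1 hg).2 w hwU
    calc (ψ ⟨g, hgX⟩ : Ω) * g⁻¹ = g * w * g⁻¹ := by rw [hw]; group
      _ = w := by rw [← h2]; group
  refine H85.mem_autInducedBy.2 ⟨w, hwU, fun x => ?_⟩
  obtain ⟨z, rfl⟩ := k.surjective x
  rw [MulAut.mul_apply, MulAut.mul_apply, MulAut.mul_apply, MulAut.inv_apply_self, hbe]
  have hkz : Subgroup.inclusion hPX (k (b⁻¹ z)) =
      ⟨g, hgX⟩ * Subgroup.inclusion hPX (b⁻¹ z) * ⟨g, hgX⟩⁻¹ := Subtype.ext (hk _)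
  rw [hkz, map_mul, map_mul, map_inv, hk, ← hwg]
  show (ψ ⟨g, hgX⟩ : Ω) * (ψ (Subgroup.inclusion hPX (b⁻¹ z)) : Ω) * (ψ ⟨g, hgX⟩ : Ω)⁻¹ = _
  rw [← hbe, MulAut.apply_inv_self]
  group

theorem induced_inf_normal (d : Data p F E) {P : Subgroup Ω} (hP : P ≤ S) {a k : MulAut P}
    (ha : a ∈ F.autGroup P) (hk : k ∈ autInducedBy (P ⊓ T) P) :
    a * k * a⁻¹ ∈ autInducedBy (P ⊓ T) P := by
  obtain ⟨u, hu, huk⟩ := H85.mem_autInducedBy.1 hk
  have haF := (H85.mem_autGroup hP).1 ha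
  refine H85.mem_autInducedBy.2 ⟨(a ⟨u, hu.1⟩ : Ω),
    ⟨(a _).2, (d.mapT haF ⟨u, hu.1⟩).2 hu.2⟩, fun x => ?_⟩
  rw [MulAut.mul_apply, MulAut.mul_apply,
    show k (a⁻¹ x) = ⟨u, hu.1⟩ * a⁻¹ x * ⟨u, hu.1⟩⁻¹ from Subtype.ext (huk _),
    map_mul, map_mul, map_inv, MulAut.apply_inv_self]
  rfl

theorem congr_induced_inf (d : Data p F E) {P P' : Subgroup Ω} {e : P ≃* P'}
    (he : H85.IsFIso F e) {k : MulAut P} (hk : k ∈ autInducedBy (P ⊓ T) P) :
    MulAut.congr e k ∈ autInducedBy (P' ⊓ T) P' := by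
  obtain ⟨u, hu, huk⟩ := H85.mem_autInducedBy.1 hk
  refine H85.mem_autInducedBy.2 ⟨(e ⟨u, hu.1⟩ : Ω),
    ⟨(e _).2, (d.mapT he ⟨u, hu.1⟩).2 hu.2⟩, fun y => ?_⟩
  obtain ⟨x, rfl⟩ := e.surjective y
  show (e (k (e.symm (e x))) : Ω) = _
  rw [e.symm_apply_apply,
    show k x = ⟨u, hu.1⟩ * x * ⟨u, hu.1⟩⁻¹ from Subtype.ext (huk _), map_mul, map_mul, map_inv]
  rfl

/-- Elements with commuting images of coprime orders. -/
theorem mem_of_comm_coprime {G : Type*} [Group G] {N : Subgroup G} [N.Normal] {k b : G}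
    (hc : b * k * b⁻¹ * k⁻¹ ∈ N) (hk : ∃ j : ℕ, k ^ p ^ j = 1)
    (ha : (orderOf (k * b)).Coprime p) (hb : (orderOf b).Coprime p) : k ∈ N := by
  obtain ⟨j, hj⟩ := hk
  rw [← QuotientGroup.eq_one_iff]
  let π := QuotientGroup.mk' N
  have hcomm : Commute (π b) (π k) := by
    have h1 : π (b * k * b⁻¹ * k⁻¹) = 1 := (QuotientGroup.eq_one_iff _).2 hc
    rw [map_mul, map_mul, map_mul, map_inv, map_inv, mul_inv_eq_one, mul_inv_eq_iff_eq_mul] at h1
    exact h1
  have hn : π k ^ (orderOf (k * b) * orderOf b) = 1 := by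
    have h1 : π (k * b) ^ (orderOf (k * b) * orderOf b) = 1 := by
      rw [← map_pow, pow_mul, pow_orderOf_eq_one, one_pow, map_one]
    rw [map_mul, hcomm.symm.mul_pow, ← map_pow π b, mul_comm (orderOf (k * b)), pow_mul b,
      pow_orderOf_eq_one, one_pow, map_one, mul_one, mul_comm] at h1
    exact h1
  have hp : orderOf (π k) ∣ p ^ j := orderOf_dvd_of_pow_eq_one (by rw [← map_pow, hj, map_one])
  exact orderOf_eq_one_iff.1 (Nat.eq_one_of_dvd_coprimes
    (Nat.Coprime.pow_right j (Nat.Coprime.mul_left ha hb)) (orderOf_dvd_of_pow_eq_one hn) hp)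

/-- Transport to a position fully normalized in `F` over a part fully normalized in the product. -/
theorem exists_pos (d : Data p F E) {P : Subgroup Ω} (hP : P ≤ S) :
    ∃ (P' : Subgroup Ω) (e : P ≃* P'), H85.IsFIso F e ∧ F.IsFullyNormalized P' ∧
      (prodSys d).IsFullyNormalized (P' ⊓ T) := by
  obtain ⟨P₁, hc₁, hn₁⟩ := H85.exists_fullyNormalized F hP
  have hP₁ := hn₁.1
  obtain ⟨U, hUc, hU⟩ := H85.exists_fullyNormalized (prodSys d)
    (inf_le_left.trans hP₁ : P₁ ⊓ T ≤ S)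
  obtain ⟨m, hm, -, himg⟩ :=
    H85.exists_map_to_fullyNormalized d.hS (isSaturated_prodSys d) hU hUc
  have hmF := prodSys_sub d _ hm
  have hN := norm_inf d hP₁
  have hP₁N : P₁ ≤ normalizerIn S (P₁ ⊓ T) := (H85.le_normalizerIn hP₁).trans hN
  set P₂ := H85.img m P₁ with hP₂
  have hU₂ : P₂ ⊓ T = U := by
    rw [← himg]
    refine le_antisymm (fun y hy => ?_) fun y hy => ?_
    · obtain ⟨x, hx, rfl⟩ := H85.mem_img.1 hy.1
      exact H85.apply_mem_img ⟨hx, (d.mapT hmF x).1 hy.2⟩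
    · obtain ⟨x, hx, rfl⟩ := H85.mem_img.1 hy
      exact ⟨H85.apply_mem_img hx.1, (d.mapT hmF x).2 hx.2⟩
  have hconj : F.IsConj P₁ P₂ := H85.isConj_img hmF hP₁N
  have : Finite P₂ := H85.finite_of_le (H85.isConj_le hconj).2
  obtain ⟨e, he⟩ := H85.isConj_iff.1 (H85.isConj_trans hc₁ hconj)
  refine ⟨P₂, e, he, ⟨(H85.isConj_le hconj).2, fun Q hQ => ?_⟩, hU₂ ▸ hU⟩
  refine (hn₁.2 Q (H85.isConj_trans hconj hQ)).trans ?_
  have : Finite (normalizerIn S P₂) := H85.finite_of_le (H85.normalizerIn_le _)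
  refine Nat.card_le_card_of_injective (fun g : normalizerIn S P₁ =>
    (⟨m (Subgroup.inclusion hN g), H85.map_mem hmF _,
      H85.extend_maps_normalizer (e := H85.resIso m (F.injective_of_mem hmF) hP₁N) hP₁N
        (fun _ => rfl) (g := Subgroup.inclusion hN g) g.2.2⟩ : normalizerIn S P₂)) fun a b hab => ?_
  exact Subgroup.inclusion_injective hN (F.injective_of_mem hmF (congrArg Subtype.val hab))

/-- The key statement at a good position. -/
theorem key_pos (d : Data p F E) {P : Subgroup Ω} (hPn : F.IsFullyNormalized P)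
    {a b : MulAut P} (ha : a ∈ nv F E P) (hord : (orderOf a).Coprime p)
    (hb : b ∈ nv F E P) (hbord : (orderOf b).Coprime p)
    (hres : ∀ x : P, (x : Ω) ∈ T → b x = a x)
    (hcomm : ∀ g ∈ centralizerIn S (P ⊓ T), ∀ k : MulAut P,
      (∀ x : P, (k x : Ω) = g * (x : Ω) * g⁻¹) →
        b * k * b⁻¹ * k⁻¹ ∈ autInducedBy (P ⊓ T) P) :
    a * b⁻¹ ∈ autInducedBy (P ⊓ T) P := by
  have hP := hPn.1
  have : Finite P := H85.finite_of_le hP
  have hknv : a * b⁻¹ ∈ nv F E P := mul_mem ha (inv_mem hb)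
  have hfix : a * b⁻¹ ∈ fixTriv (P ⊓ T) P := by
    refine ⟨fun x hx => ?_, trivMod_inf (nv_trivMod hknv)⟩
    have hxT : ((b⁻¹ x : P) : Ω) ∈ T :=
      (trivMod_mem_iff (inv_mem (nv_trivMod hb)) x).2 hx.2
    rw [MulAut.mul_apply, ← hres _ hxT, MulAut.apply_inv_self]
  let A : Subgroup (MulAut P) := F.autGroup P ⊓ fixTriv (P ⊓ T) P
  have hAp : IsPGroup p A := fun c => by
    obtain ⟨j, hj⟩ := fixTriv_pow d.hS hP c.2.2
    exact ⟨j, Subtype.ext hj⟩
  obtain ⟨β, hβ, hβc⟩ := H85.fullyAutomized_conj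
    (H85.fullyAutomized_of_fullyNormalized d.hS d.satF hPn) (inf_le_left : A ≤ _) hAp
  have hstab : ∀ c ∈ F.autGroup P, ∀ x : P, (x : Ω) ∈ P ⊓ T → ((c x : P) : Ω) ∈ P ⊓ T :=
    fun c hc' x hx => ⟨(c x).2, (d.mapT ((H85.mem_autGroup hP).1 hc') x).2 hx.2⟩
  have hβk : β⁻¹ * (a * b⁻¹) * β ∈ A := by
    refine ⟨(F.autGroup P).mul_mem
      ((F.autGroup P).mul_mem ((F.autGroup P).inv_mem hβ) hknv.1) hβ, ?_⟩
    have h1 := fixTriv_conj (a := β⁻¹) (hstab _ (inv_mem hβ))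
      (by rw [inv_inv]; exact hstab _ hβ) hfix
    rwa [inv_inv] at h1
  have hS' := hβc _ hβk
  rw [show β * (β⁻¹ * (a * b⁻¹) * β) * β⁻¹ = a * b⁻¹ by group] at hS'
  obtain ⟨g, hg, hgk⟩ := H85.mem_autInducedBy.1 hS'
  have hgC : g ∈ centralizerIn S (P ⊓ T) := by
    refine H85.mem_centralizerIn.2 ⟨hg, fun u hu => ?_⟩
    have h1 := hgk ⟨u, hu.1⟩
    rw [hfix.1 ⟨u, hu.1⟩ hu] at h1
    calc u * g = g * u * g⁻¹ * g := by rw [← h1]
      _ = g * u := by group
  have hcm := hcomm g hgC _ hgk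
  let N : Subgroup (F.autGroup P) := (autInducedBy (P ⊓ T) P).subgroupOf (F.autGroup P)
  have : N.Normal := ⟨fun n hn c => induced_inf_normal d hP c.2 hn⟩
  obtain ⟨j, hj⟩ := fixTriv_pow d.hS hP hfix
  exact mem_of_comm_coprime (p := p) (N := N) (k := ⟨a * b⁻¹, hknv.1⟩) (b := ⟨b, hb.1⟩) hcm
    ⟨j, Subtype.ext hj⟩ (by rw [← Subgroup.orderOf_coe]; simpa using hord)
    (by rwa [Subgroup.orderOf_mk])

theorem key_eq (d : Data p F E) {P : Subgroup Ω} (hP : P ≤ S) (hc : E.IsCentric (P ⊓ T))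
    {a a' : MulAut P} (ha : a ∈ nv F E P) (hord : (orderOf a).Coprime p) (ha' : a' ∈ nv F E P)
    (hord' : (orderOf a').Coprime p) (hres : ∀ x : P, (x : Ω) ∈ T → a' x = a x) :
    a * a'⁻¹ ∈ autInducedBy (P ⊓ T) P := by
  obtain ⟨P', e, he, hPn, hU⟩ := exists_pos d hP
  obtain ⟨eU, heU, -⟩ := exists_eU d he
  have hc' : E.IsCentric (P' ⊓ T) := centric_of_conj d.hE.1 hc heU.isConj
  have hres' : ∀ y : P', (y : Ω) ∈ T → MulAut.congr e a' y = MulAut.congr e a y := fun y hy => by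
    obtain ⟨x, rfl⟩ := e.surjective y
    show e (a' (e.symm (e x))) = e (a (e.symm (e x)))
    rw [e.symm_apply_apply, hres x ((d.mapT he x).1 hy)]
  have hord₁ : (orderOf (MulAut.congr e a)).Coprime p := by
    rwa [MulEquiv.orderOf_eq]
  have hord₂ : (orderOf (MulAut.congr e a')).Coprime p := by
    rwa [MulEquiv.orderOf_eq]
  have han := congr_nv d he ha
  have han' := congr_nv d he ha'
  obtain ⟨b, -, hbn, hbo, hbr, hbc⟩ := exists_ext d hPn.1 hc' hU han hord₁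
  have h1 := key_pos d hPn han hord₁ hbn hbo hbr hbc
  have h2 := key_pos d hPn han' hord₂ hbn hbo
    (fun x hx => (hbr x hx).trans (hres' x hx).symm) hbc
  have h3 : MulAut.congr e (a * a'⁻¹) ∈ autInducedBy (P' ⊓ T) P' := by
    have h4 := mul_mem h1 (inv_mem h2)
    rw [map_mul, map_inv]
    rwa [show MulAut.congr e a * b⁻¹ * (MulAut.congr e a' * b⁻¹)⁻¹ =
      MulAut.congr e a * (MulAut.congr e a')⁻¹ by group] at h4
  have h5 := congr_induced_inf d he.symm h3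
  rwa [show MulAut.congr e.symm (MulAut.congr e (a * a'⁻¹)) = a * a'⁻¹ from
    MulEquiv.ext fun x => by
      show e.symm (e ((a * a'⁻¹) (e.symm (e x)))) = _
      rw [e.symm_apply_apply, e.symm_apply_apply]] at h5

/-- Elements of order prime to `p` of `nv` over an `E`-centric part lie in the product. -/
theorem conv (d : Data p F E) {P : Subgroup Ω} (hP : P ≤ S) (hc : E.IsCentric (P ⊓ T))
    {a : MulAut P} (ha : a ∈ nv F E P) (hord : (orderOf a).Coprime p) :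
    a ∈ (prodSys d).autGroup P := by
  obtain ⟨U, hUc, hU⟩ := H85.exists_fullyNormalized (prodSys d)
    (inf_le_left.trans hP : P ⊓ T ≤ S)
  obtain ⟨m, hm, -, himg⟩ :=
    H85.exists_map_to_fullyNormalized d.hS (isSaturated_prodSys d) hU hUc
  have hmF := prodSys_sub d _ hm
  have hPN : P ≤ normalizerIn S (P ⊓ T) := (H85.le_normalizerIn hP).trans (norm_inf d hP)
  set P' := H85.img m P with hP'
  set e : P ≃* P' := H85.resIso m ((prodSys d).injective_of_mem hm) hPN with hedef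
  have he : H85.IsFIso (prodSys d) e := H85.isFIso_resIso hm hPN
  have heF : H85.IsFIso F e := prodSys_sub d _ he
  have hP'S : P' ≤ S := he.right_le
  have hU' : P' ⊓ T = U := by
    rw [← himg]
    refine le_antisymm (fun y hy => ?_) fun y hy => ?_
    · obtain ⟨x, hx, rfl⟩ := H85.mem_img.1 hy.1
      exact H85.apply_mem_img ⟨hx, (d.mapT hmF x).1 hy.2⟩
    · obtain ⟨x, hx, rfl⟩ := H85.mem_img.1 hy
      exact ⟨H85.apply_mem_img hx.1, (d.mapT hmF x).2 hx.2⟩
  obtain ⟨eU, heU, -⟩ := exists_eU d heF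
  have hc' : E.IsCentric (P' ⊓ T) := centric_of_conj d.hE.1 hc heU.isConj
  have hn := congr_nv d heF ha
  have hord' : (orderOf (MulAut.congr e a)).Coprime p := by
    rwa [MulEquiv.orderOf_eq]
  obtain ⟨b, hbD, hbn, hbo, hbr, -⟩ := exists_ext d hP'S hc' (hU' ▸ hU) hn hord'
  have h1 := key_eq d hP'S hc' hn hord' hbn hbo hbr
  have hind : autInducedBy (P' ⊓ T) P' ≤ (prodSys d).autGroup P' := fun k hk => by
    obtain ⟨u, hu, huk⟩ := H85.mem_autInducedBy.1 hk
    exact H85.autInducedBy_le_autGroup _ hP'S (H85.mem_autInducedBy.2 ⟨u, hP'S hu.1, huk⟩)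
  have h2 := mul_mem (hind h1) hbD
  rw [show MulAut.congr e a * b⁻¹ * b = MulAut.congr e a by group] at h2
  refine (H85.mem_autGroup hP).2
    (((he.trans ((H85.mem_autGroup hP'S).1 h2)).trans he.symm).congr fun x => ?_)
  show (e.symm (e (a (e.symm (e x)))) : Ω) = _
  rw [e.symm_apply_apply, e.symm_apply_apply]

/-- The whole of `nv` lies in the product at fully normalized subgroups. -/
theorem nv_le_prodSys (d : Data p F E) {P : Subgroup Ω} (hPn : F.IsFullyNormalized P)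
    (hc : E.IsCentric (P ⊓ T)) : nv F E P ≤ (prodSys d).autGroup P := by
  have hP := hPn.1
  obtain ⟨-, R, hR⟩ := H85.fullyAutomized_of_fullyNormalized d.hS d.satF hPn
  have : Finite (F.autGroup P) := H85.finite_autGroup F hP
  let K : Subgroup (F.autGroup P) := (nv F E P).subgroupOf (F.autGroup P)
  have : K.Normal := ⟨fun k hk a => nv_normal d hP a.2 hk⟩
  obtain ⟨R', hR'⟩ := exists_sylow_inf_normal R K
  let L : Subgroup K := ((prodSys d).autGroup P).comap ((F.autGroup P).subtype.comp K.subtype)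
  have hL : (⊤ : Subgroup K) ≤ L := by
    rw [← pResidual_sup_sylow R']
    refine sup_le ((Subgroup.closure_le _).2 fun k hk => ?_) fun k hk => ?_
    · refine conv d hP hc k.2 ?_
      show (orderOf ((k : F.autGroup P) : MulAut P)).Coprime p
      rw [Subgroup.orderOf_coe, Subgroup.orderOf_coe]
      exact hk
    · rw [hR'] at hk
      have h1 : (k : F.autGroup P) ∈ (R : Subgroup (F.autGroup P)) := hk
      rw [hR] at h1
      exact H85.autInducedBy_le_autGroup _ hP h1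
  intro a ha
  exact hL (Subgroup.mem_top (⟨⟨a, nv_le ha⟩, ha⟩ : K))

end H89.Bal
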