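import Cfsg.Agent.H89.Balance.Dec
import Cfsg.Agent.H85.LocalSystems
import Cfsg.Agent.H85.Systems

/-!
The normalizer of `X` in the slice over `X T` is weakly normal in the normalizer system of `X`.
-/

set_option autoImplicit false
set_option linter.unusedSectionVars false

open Cfsg Cfsg.FusionSystem
open scoped Pointwise

namespace H89.Bal

open H86 H86.SE

variable {Ω : Type*} [Group Ω] {S T : Subgroup Ω} [Finite S] {p : ℕ} [Fact p.Prime]
  {F : FusionSystem S} {E : FusionSystem T}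

/-- Conjugating a map of a slice by an arbitrary map of `F`. -/
theorem dec_move (d : Data p F E) {W R R' : Subgroup Ω} {G : FusionSystem R} (hG : IsSlice d G)
    {G' : FusionSystem R'} (hG' : IsSlice d G') (hR : R = W ⊔ T) {α : W →* Ω}
    (hα : α ∈ F.Hom W) (hR' : R' = α.range ⊔ T) {A : Subgroup Ω} (hA : A ≤ W) {ψ : A →* Ω}
    (hψ : ψ ∈ G.Hom A) (hψW : ∀ a, ψ a ∈ W) :
    ∃ ω ∈ G'.Hom (H85.img α A), ∀ a : A,
      ω ⟨α (Subgroup.inclusion hA a), H85.apply_mem_img (x := Subgroup.inclusion hA a) a.2⟩ =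
        α ⟨ψ a, hψW a⟩ := by
  obtain ⟨φ₀, h₀, n, hn, he⟩ := dec_all d hα R G hG hR
  obtain ⟨hnr, -⟩ := dec_range d hG hR h₀ hn he
  have ha := H85.restrict h₀ hA
  obtain ⟨g, hg, hge⟩ := G.inv_mem ha
  have hgA : ∀ z, g z ∈ A := by
    rintro ⟨_, a, rfl⟩
    rw [hge]
    exact a.2
  obtain ⟨ω, hω, hωe⟩ := inv_map d hG hn (hnr.trans hR'.symm) hG'
    (G.comp_mem (G.comp_mem hg hψ hgA) h₀ fun z => hψW _)
  have hle : H85.img α A ≤ H85.img n (φ₀.comp (Subgroup.inclusion hA)).range := by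
    intro y hy
    obtain ⟨w, hw, rfl⟩ := H85.mem_img.1 hy
    rw [he w (H85.map_mem h₀ w)]
    exact H85.apply_mem_img (φ := n) (x := (⟨φ₀ w, H85.map_mem h₀ w⟩ : R))
      ⟨⟨w, hw⟩, congrArg φ₀ (Subtype.ext rfl)⟩
  refine ⟨_, H85.restrict hω hle, fun a => ?_⟩
  have h1 := hωe ⟨φ₀ (Subgroup.inclusion hA a), a, rfl⟩
  refine (Eq.trans ?_ h1).trans ?_
  · exact congrArg ω (Subtype.ext (he _ (H85.map_mem h₀ _)))
  · refine Eq.trans (congrArg n (Subtype.ext ?_))
      (he ⟨ψ a, hψW a⟩ (H85.map_mem h₀ _)).symm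
    show φ₀ ⟨ψ ⟨g ⟨φ₀ (Subgroup.inclusion hA a), a, rfl⟩, _⟩, _⟩ = φ₀ ⟨ψ a, hψW a⟩
    refine congrArg φ₀ (Subtype.ext (congrArg ψ (Subtype.ext ?_)))
    exact hge a

/-- The subgroup `X` is fully normalized in the slice over `X T`. -/
theorem fullyNormalized_slice (d : Data p F E) {X : Subgroup Ω} (hX : F.IsFullyNormalized X)
    {G : FusionSystem (X ⊔ T)} (hG : IsSlice d G) : G.IsFullyNormalized X := by
  refine ⟨le_sup_left, fun Q hQ => ?_⟩
  obtain ⟨φ, hφ, hr⟩ := hQ
  subst hr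
  have hRQ : φ.range ⊔ T = X ⊔ T :=
    range_sup d (hG.subD _ hφ) fun x => H85.map_mem hφ x
  obtain ⟨χ, hχ, hχN, himg⟩ := H85.exists_map_to_fullyNormalized d.hS d.satF hX
    (H85.isConj_symm ⟨φ, hG.sub _ hφ, rfl⟩)
  have hN : normalizerIn (X ⊔ T) φ.range ≤ normalizerIn S φ.range := inf_le_inf_right _ hG.leS
  have : Finite (normalizerIn (X ⊔ T) X) :=
    H85.finite_of_le ((H85.normalizerIn_le X).trans hG.leS)
  have hQS : φ.range ≤ S := H85.range_le (hG.sub _ hφ)
  have hm : ∀ g : normalizerIn (X ⊔ T) φ.range,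
      χ (Subgroup.inclusion hN g) ∈ normalizerIn (X ⊔ T) X := by
    intro g
    refine ⟨?_, (hχN _).2⟩
    have hg : (g : Ω) ∈ φ.range ⊔ T := by
      rw [hRQ]
      exact g.2.1
    have hnT : φ.range ≤ Subgroup.normalizer (T : Set Ω) := fun x hx => by
      have := d.finT
      exact H85.mem_normalizer_of_conj fun t ht => d.conjT (hQS hx) ht
    obtain ⟨q, hq, t, ht, hqt⟩ : (g : Ω) ∈ ((φ.range : Set Ω) * (T : Set Ω) : Set Ω) := by
      rw [← Subgroup.coe_mul_of_left_le_normalizer_right φ.range T hnT]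
      exact hg
    have htN : t ∈ normalizerIn S φ.range := by
      rw [show t = q⁻¹ * (g : Ω) by rw [← hqt]; simp]
      exact mul_mem (inv_mem (H85.le_normalizerIn hQS hq)) (hN g.2)
    rw [show Subgroup.inclusion hN g =
      (⟨q, H85.le_normalizerIn hQS hq⟩ : normalizerIn S φ.range) * ⟨t, htN⟩ from
      Subtype.ext hqt.symm, map_mul]
    refine mul_mem (Subgroup.mem_sup_left (himg.le (H85.apply_mem_img (φ := χ)
      (x := (⟨q, H85.le_normalizerIn hQS hq⟩ : normalizerIn S φ.range)) hq)))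
      (Subgroup.mem_sup_right ((d.mapT hχ _).2 ht))
  exact Nat.card_le_card_of_injective (fun g => (⟨_, hm g⟩ : normalizerIn (X ⊔ T) X))
    fun a b hab => Subgroup.inclusion_injective hN (F.injective_of_mem hχ (congrArg Subtype.val hab))

set_option maxHeartbeats 800000 in
/-- The normalizer of `X` in the slice is weakly normal in the normalizer of `X`. -/
theorem exists_local (d : Data p F E) {X : Subgroup Ω} (hX : F.IsFullyNormalized X)
    {N : FusionSystem (normalizerIn S X)} (hN : F.IsNormalizerSystem X N) :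
    ∃ H : FusionSystem (normalizerIn (X ⊔ T) X),
      H.IsWeaklyNormalIn N p ∧ H.IsSubsystemOf (prodSys d) := by
  have hXS := hX.1
  have hRS : X ⊔ T ≤ S := sup_le hXS d.le_base
  obtain ⟨G, hG⟩ := exists_slice d (le_sup_right : T ≤ X ⊔ T) hRS
  have : Finite ↥(X ⊔ T) := H85.finite_of_le hRS
  have hRp : IsPGroup p ↥(X ⊔ T) := d.hS.to_le hRS
  have hXG := fullyNormalized_slice d hX hG
  set V := normalizerIn (X ⊔ T) X with hVdef
  set H := H85.normalizerSystem G X le_sup_left with hHdef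
  have hVN : V ≤ normalizerIn S X := inf_le_inf_right _ hRS
  have hXV : X ≤ V := H85.le_normalizerIn le_sup_left
  have hVR : V ≤ X ⊔ T := H85.normalizerIn_le X
  have : Finite V := H85.finite_of_le (hVR.trans hRS)
  have hVT : ∀ {A : Subgroup Ω}, X ≤ A → A ≤ V → A ⊔ T = X ⊔ T := fun hXA hAV =>
    le_antisymm (sup_le (hAV.trans hVR) le_sup_right) (sup_le_sup_right hXA T)
  have hHN : H.IsSubsystemOf N := by
    intro P φ hφ
    obtain ⟨h1, h2, h3, ψ, hψ, he, himg⟩ := H85.mem_normalizerHom.1 hφ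
    rw [hN P]
    exact H85.mem_normalizerHom.2
      ⟨hG.sub P h1, h2.trans hVN, fun x => hVN (h3 x), ψ, hG.sub _ hψ, he, himg⟩
  have hHD : H.IsSubsystemOf (prodSys d) := fun P φ hφ => hG.subD P hφ.1
  -- maps of the normalizer on subgroups of `V`
  have hval : ∀ {P : Subgroup Ω}, P ≤ V → ∀ {φ : P →* Ω}, φ ∈ N.Hom P →
      ∃ ψ ∈ F.Hom (P ⊔ X), (∀ x : P, ψ (Subgroup.inclusion le_sup_left x) = φ x) ∧
        H85.img ψ X = X ∧ (∀ z, ψ z ∈ V) := by
    intro P hPV φ hφ
    rw [hN P] at hφ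
    obtain ⟨-, -, hv, ψ, hψ, he, himg⟩ := H85.mem_normalizerHom.1 hφ
    refine ⟨ψ, hψ, he, himg, ?_⟩
    have hPX : P ⊔ X ≤ V := sup_le hPV hXV
    intro z
    obtain ⟨a, ha, t, ht, hat⟩ : (z : Ω) ∈ ((X : Set Ω) * (T : Set Ω) : Set Ω) := by
      rw [← Subgroup.coe_mul_of_left_le_normalizer_right X T fun x hx => by
        have := d.finT
        exact H85.mem_normalizer_of_conj fun t ht => d.conjT (hXS hx) ht]
      exact hVR (hPX z.2)
    have haP : a ∈ P ⊔ X := Subgroup.mem_sup_right ha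
    have htP : t ∈ P ⊔ X := by
      rw [show t = a⁻¹ * (z : Ω) by rw [← hat]; simp]
      exact mul_mem (inv_mem haP) z.2
    refine ⟨?_, ?_⟩
    · rw [show z = (⟨a, haP⟩ : ↥(P ⊔ X)) * ⟨t, htP⟩ from Subtype.ext hat.symm, map_mul]
      exact mul_mem (Subgroup.mem_sup_left (himg.le (H85.apply_mem_img (φ := ψ)
        (x := (⟨a, haP⟩ : ↥(P ⊔ X))) ha))) (Subgroup.mem_sup_right ((d.mapT hψ _).2 ht))
    · have : Finite X := H85.finite_of_le hXS
      exact H85.extend_maps_normalizer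
        (e := (H85.resIso ψ (F.injective_of_mem hψ) (le_sup_right : X ≤ P ⊔ X)).trans
          (MulEquiv.subgroupCongr himg)) le_sup_right (fun _ => rfl) (g := z) (hPX z.2).2
  have hclosed : N.StronglyClosed V := ⟨hVN, fun Q hQ φ hφ x => by
    obtain ⟨ψ, -, he, -, hv⟩ := hval hQ hφ
    rw [← he x]
    exact hv _⟩
  refine ⟨H, ⟨H85.isSaturated_normalizerSystem hRp hG.sat hXG _
      (H85.normalizerSystem_spec G X le_sup_left),
    H85.isSaturated_normalizerSystem d.hS d.satF hX N hN, hHN, hclosed, ?_, ?_⟩, hHD⟩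
  · intro P hPV φ hφ α hα
    have hαN : V.subtype.comp α.toMonoidHom ∈ N.Hom V := (H85.mem_autGroup hVN).1 hα
    have hαF : V.subtype.comp α.toMonoidHom ∈ F.Hom V := by
      rw [hN V] at hαN
      exact hαN.1
    obtain ⟨h1, -, hv, ψ, hψ, he, himg⟩ := H85.mem_normalizerHom.1 hφ
    have hPX : P ⊔ X ≤ V := sup_le hPV hXV
    have hψV : ∀ z, ψ z ∈ V := by
      have hle : P ⊔ X ≤ ((V.comap ψ).map (P ⊔ X).subtype) := sup_le
        (fun x hx => ⟨⟨x, Subgroup.mem_sup_left hx⟩,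
          show ψ _ ∈ V from (he ⟨x, hx⟩).symm ▸ hv ⟨x, hx⟩, rfl⟩)
        (fun x hx => ⟨⟨x, Subgroup.mem_sup_right hx⟩,
          hXV (himg.le (H85.apply_mem_img (φ := ψ)
            (x := (⟨x, Subgroup.mem_sup_right hx⟩ : ↥(P ⊔ X))) hx)), rfl⟩)
      intro z
      obtain ⟨w, hw, hwz⟩ := hle z.2
      exact (Subtype.ext hwz : w = z) ▸ hw
    obtain ⟨ω, hω, hωe⟩ := dec_move d hG hG (hVT hXV le_rfl).symm hαF
      (by rw [H85.IsFIso.range_eq α, hVT hXV le_rfl]) hPX hψ hψV
    have hαX : ∀ z : V, (z : Ω) ∈ X ↔ ((α z : V) : Ω) ∈ X := by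
      rw [hN V] at hαN
      obtain ⟨-, -, -, θ, -, hθ, hθX⟩ := H85.mem_normalizerHom.1 hαN
      intro z
      refine ⟨fun hz => ?_, fun hz => ?_⟩
      · rw [show ((α z : V) : Ω) = θ (Subgroup.inclusion le_sup_left z) from (hθ z).symm]
        exact hθX.le (H85.apply_mem_img (φ := θ) (x := Subgroup.inclusion le_sup_left z) hz)
      · obtain ⟨w, hw, hwz⟩ := H85.mem_img.1 (hθX.ge hz)
        rw [show w = Subgroup.inclusion le_sup_left (⟨(w : Ω), hXV hw⟩ : V) from Subtype.ext rfl,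
          hθ] at hwz
        rw [← α.injective (Subtype.ext hwz)]
        exact hw
    have hle : (P.subgroupOf V).map (V.subtype.comp α.toMonoidHom) ≤
        H85.img (V.subtype.comp α.toMonoidHom) (P ⊔ X) := H85.img_mono _ le_sup_left
    have hle' : (P.subgroupOf V).map (V.subtype.comp α.toMonoidHom) ⊔ X ≤
        H85.img (V.subtype.comp α.toMonoidHom) (P ⊔ X) := sup_le hle fun x hx => by
      obtain ⟨z, hz⟩ := α.surjective ⟨x, hXV hx⟩
      rw [show x = (V.subtype.comp α.toMonoidHom) z from (congrArg Subtype.val hz).symm]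
      exact H85.apply_mem_img (φ := V.subtype.comp α.toMonoidHom) (x := z)
        (Subgroup.mem_sup_right ((hαX z).2 (by rw [hz]; exact hx)))
    refine ⟨ω.comp (Subgroup.inclusion hle), H85.mem_normalizerHom.2
      ⟨H85.restrict hω hle, ?_, ?_, ω.comp (Subgroup.inclusion hle'), H85.restrict hω hle',
        fun y => rfl, ?_⟩, fun x hx hy => ?_⟩
    · rintro _ ⟨z, -, rfl⟩
      exact (α z).2
    · rintro ⟨_, z, hz, rfl⟩
      show ω _ ∈ V
      refine (hωe ⟨z, Subgroup.mem_sup_left hz⟩).symm ▸ ?_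
      exact (α _).2
    · refine le_antisymm (fun y hy => ?_) fun y hy => ?_
      · obtain ⟨w, hw, rfl⟩ := H85.mem_img.1 hy
        obtain ⟨z, hz⟩ := α.surjective ⟨(w : Ω), hXV hw⟩
        have hzX : (z : Ω) ∈ X := (hαX z).2 (by rw [hz]; exact hw)
        have h2 := hωe ⟨(z : Ω), Subgroup.mem_sup_right hzX⟩
        show ω (Subgroup.inclusion hle' w) ∈ X
        rw [show Subgroup.inclusion hle' w = ⟨(α z : Ω), hle' (hz.symm ▸ w.2)⟩ from
          Subtype.ext (congrArg Subtype.val hz).symm]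
        refine h2.symm ▸ (hαX _).1 ?_
        exact himg.le (H85.apply_mem_img (φ := ψ)
          (x := (⟨(z : Ω), Subgroup.mem_sup_right hzX⟩ : ↥(P ⊔ X))) hzX)
      · obtain ⟨z, hz⟩ := α.surjective ⟨y, hXV hy⟩
        obtain ⟨q, hq, hqz⟩ := H85.mem_img.1 (himg.ge ((hαX z).2 (by rw [hz]; exact hy)))
        have h2 := hωe q
        have hqV : (q : Ω) ∈ V := hPX q.2
        have hm : ((α ⟨(q : Ω), hqV⟩ : V) : Ω) ∈
            (P.subgroupOf V).map (V.subtype.comp α.toMonoidHom) ⊔ X :=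
          Subgroup.mem_sup_right ((hαX _).1 hq)
        refine H85.mem_img.2 ⟨⟨_, hm⟩, (hαX _).1 hq, ?_⟩
        refine h2.trans ?_
        rw [show (⟨ψ q, hψV q⟩ : V) = z from Subtype.ext hqz]
        exact congrArg Subtype.val hz
    · refine (hωe (Subgroup.inclusion le_sup_left x)).trans ?_
      exact congrArg (fun w : V => (α w : Ω)) (Subtype.ext (he x))
  · intro P hPV φ hφ
    obtain ⟨ψ, hψ, he, himg, hv⟩ := hval hPV hφ
    have hPX : P ⊔ X ≤ V := sup_le hPV hXV
    have hR : X ⊔ T = P ⊔ X ⊔ T := (hVT le_sup_right hPX).symm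
    obtain ⟨m, hm, n, hn, hme⟩ := dec_all d hψ _ G hG hR
    obtain ⟨hnr, -⟩ := dec_range d hG hR hm hn hme
    have hψr : ψ.range ⊔ T = X ⊔ T := hVT
      (fun x hx => H85.img_le_range ψ (himg.ge hx)) (by rintro _ ⟨z, rfl⟩; exact hv z)
    have hnR : n.range = X ⊔ T := hnr.trans hψr
    set X₁ := H85.img m X with hX₁
    have hX₁R : X₁ ≤ X ⊔ T := (H85.img_le_range m).trans (H85.range_le hm)
    have hnX : H85.img n X₁ = X := by
      refine le_antisymm (fun y hy => ?_) fun y hy => ?_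
      · obtain ⟨w, hw, rfl⟩ := H85.mem_img.1 hy
        obtain ⟨z, hz, hzw⟩ := H85.mem_img.1 hw
        rw [show w = ⟨m z, H85.map_mem hm z⟩ from Subtype.ext hzw.symm, ← hme z _]
        exact himg.le (H85.apply_mem_img hz)
      · obtain ⟨z, hz, rfl⟩ := H85.mem_img.1 (himg.ge hy)
        rw [hme z (H85.map_mem hm z)]
        exact H85.apply_mem_img (φ := n) (x := (⟨m z, H85.map_mem hm z⟩ : ↥(X ⊔ T)))
          (H85.apply_mem_img hz)
    have hconj : G.IsConj X₁ X :=
      H85.isConj_symm (H85.isConj_img hm (le_sup_right : X ≤ P ⊔ X))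
    obtain ⟨δ, hδ, hδV, hδX⟩ := H85.exists_map_to_fullyNormalized hRp hG.sat hXG hconj
    -- `n` carries the normalizer of `X₁` onto `V`
    have hnN : ∀ g : normalizerIn (X ⊔ T) X₁, n ⟨g, g.2.1⟩ ∈ V := fun g => by
      refine ⟨hnR.le ⟨_, rfl⟩, ?_⟩
      have : Finite X := H85.finite_of_le hXS
      exact H85.extend_maps_normalizer
        (e := (H85.resIso n (F.injective_of_mem hn) hX₁R).trans (MulEquiv.subgroupCongr hnX)) hX₁R
        (fun _ => rfl) (g := ⟨(g : Ω), g.2.1⟩) g.2.2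
    have hnR' : normalizerIn (X ⊔ T) X₁ ≤ X ⊔ T := H85.normalizerIn_le X₁
    have : Finite (normalizerIn (X ⊔ T) X₁) := H85.finite_of_le (hnR'.trans hRS)
    have hVcard : Nat.card V ≤ Nat.card (normalizerIn (X ⊔ T) X₁) := by
      have hmem : ∀ v : V, ∃ g : normalizerIn (X ⊔ T) X₁, n ⟨g, g.2.1⟩ = v := by
        intro v
        obtain ⟨w, hw⟩ := hnR.ge (hVR v.2)
        have : Finite X₁ := H85.finite_of_le (hX₁R.trans hRS)
        refine ⟨⟨w, w.2, H85.mem_normalizer_of_conj fun x hx => ?_⟩, hw⟩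
        have h1 : n (w * ⟨x, hX₁R hx⟩ * w⁻¹) ∈ X := by
          rw [map_mul, map_mul, map_inv, hw]
          exact H85.conj_mem_of_mem_normalizer v.2.2
            (hnX.le (H85.apply_mem_img (φ := n) (x := (⟨x, hX₁R hx⟩ : ↥(X ⊔ T))) hx))
        obtain ⟨z, hz, hzw⟩ := H85.mem_img.1 (hnX.ge h1)
        have h2 := F.injective_of_mem hn hzw
        rwa [h2] at hz
      choose g hg using hmem
      exact Nat.card_le_card_of_injective g fun a b hab =>
        Subtype.ext ((hg a).symm.trans ((congrArg (fun w : normalizerIn (X ⊔ T) X₁ =>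
          n ⟨w, w.2.1⟩) hab).trans (hg b)))
    have hδr : δ.range = V := by
      refine Subgroup.eq_of_le_of_card_ge (by rintro _ ⟨z, rfl⟩; exact hδV z) ?_
      rw [card_range G hδ]
      exact hVcard
    obtain ⟨δi, hδi, hδie⟩ := G.inv_mem hδ
    have hδi' := H85.restrict hδi hδr.ge
    have hδiv : ∀ v, (δi.comp (Subgroup.inclusion hδr.ge)) v ∈ normalizerIn (X ⊔ T) X₁ := fun v => by
      obtain ⟨z, hz⟩ := hδr.ge v.2
      rw [MonoidHom.comp_apply,
        show Subgroup.inclusion hδr.ge v = ⟨δ z, z, rfl⟩ from Subtype.ext hz.symm, hδie]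
      exact z.2
    have hαF := F.comp_mem (hG.sub _ hδi') (H85.restrict hn hnR') hδiv
    have hαV : ∀ v, ((n.comp (Subgroup.inclusion hnR')).comp
        ((δi.comp (Subgroup.inclusion hδr.ge)).codRestrict _ hδiv)) v ∈ V := fun v =>
      hnN ⟨_, hδiv v⟩
    have hαr := range_eq_self_of_le F hαF (by rintro _ ⟨v, rfl⟩; exact hαV v)
    set α : MulAut V := autOfHom _ (F.injective_of_mem hαF) hαr with hαdef
    have hαe : ∀ z : normalizerIn (X ⊔ T) X₁,
        (α ⟨δ z, hδV z⟩ : Ω) = n ⟨z, z.2.1⟩ := fun z => by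
      show n (Subgroup.inclusion hnR' ⟨δi (Subgroup.inclusion hδr.ge ⟨δ z, hδV z⟩), _⟩) = _
      exact congrArg n (Subtype.ext (hδie z))
    have hαN : α ∈ N.autGroup V := by
      refine (H85.mem_autGroup hVN).2 ?_
      show V.subtype.comp α.toMonoidHom ∈ N.Hom V
      rw [hN V]
      refine H85.mem_normalizerHom.2 ⟨(H85.mem_autGroup (hVR.trans hRS)).1
        (autOfHom_mem F hαF hαr), hVN, fun v => hVN (α v).2,
        (V.subtype.comp α.toMonoidHom).comp (Subgroup.inclusion (sup_le le_rfl hXV)),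
        H85.restrict ((H85.mem_autGroup (hVR.trans hRS)).1 (autOfHom_mem F hαF hαr)) _,
        fun v => rfl, ?_⟩
      have : Finite X := H85.finite_of_le hXS
      refine img_eq_of_mapsTo
        (H85.restrict ((H85.mem_autGroup (hVR.trans hRS)).1 (autOfHom_mem F hαF hαr))
          (sup_le le_rfl hXV)) le_sup_right fun v hv => ?_
      obtain ⟨z, hz, hzv⟩ := H85.mem_img.1 (hδX.ge hv)
      show (α (Subgroup.inclusion (sup_le le_rfl hXV) v) : Ω) ∈ X
      rw [show Subgroup.inclusion (sup_le le_rfl hXV) v = ⟨δ z, hδV z⟩ from Subtype.ext hzv.symm,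
        hαe]
      exact hnX.le (H85.apply_mem_img (φ := n) (x := (⟨(z : Ω), z.2.1⟩ : ↥(X ⊔ T))) hz)
    -- the part in `H`
    have hmN : ∀ z : ↥(P ⊔ X), m z ∈ normalizerIn (X ⊔ T) X₁ := fun z => by
      have : Finite X₁ := H85.finite_of_le (hX₁R.trans hRS)
      exact ⟨H85.map_mem hm z, H85.extend_maps_normalizer
        (e := H85.resIso m (G.injective_of_mem hm) (le_sup_right : X ≤ P ⊔ X)) le_sup_right
        (fun _ => rfl) (g := z) (hPX z.2).2⟩
    have hdm := G.comp_mem hm hδ hmN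
    refine ⟨α, hαN, (δ.comp (m.codRestrict _ hmN)).comp
      (Subgroup.inclusion (le_sup_left : P ≤ P ⊔ X)), H85.mem_normalizerHom.2
      ⟨H85.restrict hdm le_sup_left, hPV, fun x => hδV _, _, hdm, fun x => rfl, ?_⟩,
      fun x hx => ?_⟩
    · have : Finite X := H85.finite_of_le hXS
      refine img_eq_of_mapsTo hdm le_sup_right fun z hz => ?_
      exact hδX.le (H85.apply_mem_img (φ := δ) (x := (⟨m z, hmN z⟩ : normalizerIn (X ⊔ T) X₁))
        (H85.apply_mem_img hz))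
    · rw [← he x, hme _ (H85.map_mem hm _)]
      exact (hαe ⟨m (Subgroup.inclusion le_sup_left x), hmN _⟩).symm

end H89.Bal
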