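import Cfsg.Agent.H89.Balance.Local
import Cfsg.Agent.H89.Balance.ExtFix
import Cfsg.Agent.H89.LayerExists
import Cfsg.Agent.H89.Dichotomy
import Cfsg.Agent.H89.FittingCentre
import Cfsg.Agent.H87.Wedge
import Cfsg.Agent.H75.SubResidual

/-!
E-balance: the layer of the normalizer of a fully normalized subgroup lies in the layer.
-/

set_option autoImplicit false
set_option linter.unusedSectionVars false
set_option linter.style.haveILetI false

open Cfsg Cfsg.FusionSystem

namespace H89.Bal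

open H86 H86.SE

universe u

variable {Ω : Type u} [Group Ω] {S T : Subgroup Ω} [Finite S] {p : ℕ} [Fact p.Prime]
  {F : FusionSystem S} {E : FusionSystem T}

/-- An automorphism extended by a map fixing `W`. -/
theorem exists_aut_fix {P W : Subgroup Ω} {ψ : ↥(P ⊔ W) →* Ω} (hψ : ψ ∈ F.Hom (P ⊔ W))
    {a : MulAut P} (he : ∀ x : P, ψ (Subgroup.inclusion le_sup_left x) = a x)
    (hfix : ∀ w : W, ψ (Subgroup.inclusion le_sup_right w) = w) :
    ∃ b ∈ F.autGroup (P ⊔ W), orderOf b ∣ orderOf a ∧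
      (∀ x : P, (b (Subgroup.inclusion le_sup_left x) : Ω) = a x) ∧
      ∀ z : ↥(P ⊔ W), (z : Ω) ∈ W → b z = z := by
  have hS' := H85.source_le hψ
  have : Finite ↥(P ⊔ W) := H85.finite_of_le hS'
  have hm : ∀ z, ψ z ∈ P ⊔ W := by
    intro z
    have h : P ⊔ W ≤ ((P ⊔ W).comap ψ).map (P ⊔ W).subtype := sup_le
      (fun x hx => ⟨Subgroup.inclusion le_sup_left ⟨x, hx⟩,
        show ψ _ ∈ P ⊔ W from (he ⟨x, hx⟩).symm ▸ Subgroup.mem_sup_left (a ⟨x, hx⟩).2, rfl⟩)
      (fun w hw => ⟨Subgroup.inclusion le_sup_right ⟨w, hw⟩,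
        show ψ _ ∈ P ⊔ W from (hfix ⟨w, hw⟩).symm ▸ Subgroup.mem_sup_right hw, rfl⟩)
    obtain ⟨u, hu, huz⟩ := h z.2
    exact (Subtype.ext huz : u = z) ▸ hu
  have hr := range_eq_self_of_le F hψ (by rintro _ ⟨z, rfl⟩; exact hm z)
  set b : MulAut ↥(P ⊔ W) := autOfHom _ (F.injective_of_mem hψ) hr with hb
  have hbW : ∀ z : ↥(P ⊔ W), (z : Ω) ∈ W → b z = z := fun z hz =>
    Subtype.ext (hfix ⟨z, hz⟩)
  have hbP : ∀ x : P, b (Subgroup.inclusion le_sup_left x) = Subgroup.inclusion le_sup_left (a x) :=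
    fun x => Subtype.ext (he x)
  refine ⟨b, autOfHom_mem F hψ hr, orderOf_dvd_of_pow_eq_one ?_, he, hbW⟩
  have hpowP : ∀ (n : ℕ) (x : P),
      (b ^ n) (Subgroup.inclusion le_sup_left x) = Subgroup.inclusion le_sup_left ((a ^ n) x) := by
    intro n
    induction n with
    | zero => intro x; rfl
    | succ n ih =>
      intro x
      rw [pow_succ', pow_succ', MulAut.mul_apply, MulAut.mul_apply, ih, hbP]
  let L : Subgroup ↥(P ⊔ W) :=
    { carrier := {z | (b ^ orderOf a) z = z}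
      one_mem' := map_one _
      mul_mem' := fun {x y} hx hy => by
        show (b ^ orderOf a) (x * y) = x * y
        rw [map_mul, hx, hy]
      inv_mem' := fun {x} hx => by
        show (b ^ orderOf a) x⁻¹ = x⁻¹
        rw [map_inv, hx] }
  have hpowW : ∀ (n : ℕ) (z : ↥(P ⊔ W)), (z : Ω) ∈ W → (b ^ n) z = z := by
    intro n
    induction n with
    | zero => intro z _; rfl
    | succ n ih => intro z hz; rw [pow_succ', MulAut.mul_apply, ih z hz, hbW z hz]
  have hL : P ⊔ W ≤ L.map (P ⊔ W).subtype := sup_le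
    (fun x hx => ⟨Subgroup.inclusion le_sup_left ⟨x, hx⟩, by
      show (b ^ orderOf a) _ = _
      rw [hpowP, pow_orderOf_eq_one]
      rfl, rfl⟩)
    (fun w hw => ⟨⟨w, Subgroup.mem_sup_right hw⟩, hpowW _ _ hw, rfl⟩)
  refine MulEquiv.ext fun z => ?_
  obtain ⟨u, hu, huz⟩ := hL z.2
  obtain rfl : u = z := Subtype.ext huz
  exact hu

/-- The displacement of an automorphism extending so as to fix `W` centralizes `W`. -/
theorem displace_centralizes {P W : Subgroup Ω} (hW : F.StronglyClosed W)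
    {ψ : ↥(P ⊔ W) →* Ω} (hψ : ψ ∈ F.Hom (P ⊔ W)) {a : MulAut P}
    (he : ∀ x : P, ψ (Subgroup.inclusion le_sup_left x) = a x)
    (hfix : ∀ w : W, ψ (Subgroup.inclusion le_sup_right w) = w) (x : P) :
    (x : Ω)⁻¹ * (a x : Ω) ∈ centralizerIn S W := by
  have hPS : P ≤ S := le_sup_left.trans (H85.source_le hψ)
  refine H85.mem_centralizerIn.2 ⟨S.mul_mem (S.inv_mem (hPS x.2)) (hPS (a x).2), fun w hw => ?_⟩
  have hxw : (x : Ω) * w * (x : Ω)⁻¹ ∈ W := normal_of_stronglyClosed F hW (hPS x.2) hw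
  have h1 := hfix ⟨_, hxw⟩
  rw [show Subgroup.inclusion le_sup_right (⟨_, hxw⟩ : W) =
      Subgroup.inclusion le_sup_left x * Subgroup.inclusion le_sup_right ⟨w, hw⟩ *
        (Subgroup.inclusion le_sup_left x)⁻¹ from Subtype.ext rfl,
    map_mul, map_mul, map_inv, he, hfix] at h1
  change (a x : Ω) * w * (a x : Ω)⁻¹ = (x : Ω) * w * (x : Ω)⁻¹ at h1
  calc w * ((x : Ω)⁻¹ * (a x : Ω))
      = (x : Ω)⁻¹ * ((x : Ω) * w * (x : Ω)⁻¹) * (a x : Ω) := by group
    _ = (x : Ω)⁻¹ * (a x : Ω) * w := by rw [← h1]; group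

/-- The values of the extension of a map of the normalizer normalize `X`. -/
theorem ext_values {X P : Subgroup Ω} (hX : X ≤ S) {ψ : ↥(P ⊔ X) →* Ω}
    (hψ : ψ ∈ F.Hom (P ⊔ X)) (hP : P ≤ normalizerIn S X) (himg : H85.img ψ X = X)
    (z : ↥(P ⊔ X)) : ψ z ∈ normalizerIn S X := by
  have : Finite X := H85.finite_of_le hX
  refine ⟨H85.map_mem hψ z, H85.extend_maps_normalizer
    (e := (H85.resIso ψ (F.injective_of_mem hψ) (le_sup_right : X ≤ P ⊔ X)).trans
      (MulEquiv.subgroupCongr himg)) le_sup_right (fun _ => rfl) (g := z) ?_⟩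
  exact ((sup_le hP (H85.le_normalizerIn hX)) z.2).2

/-- `X` is normal in its normalizer system. -/
theorem isNormal_normalizer {X : Subgroup Ω} (hX : X ≤ S)
    {N : FusionSystem (normalizerIn S X)} (hN : F.IsNormalizerSystem X N) : N.IsNormal X := by
  refine ⟨H85.le_normalizerIn hX, fun P φ hφ => ?_⟩
  rw [hN P] at hφ
  obtain ⟨-, hP, -, ψ, hψ, he, himg⟩ := H85.mem_normalizerHom.1 hφ
  refine ⟨ψ, ?_, he, himg⟩
  rw [hN]
  refine H85.mem_normalizerHom.2 ⟨hψ, sup_le hP (H85.le_normalizerIn hX),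
    ext_values hX hψ hP himg, _, H85.restrict hψ (sup_le le_rfl le_sup_right),
    fun _ => rfl, ?_⟩
  refine img_eq_of_mapsTo (H85.restrict hψ (sup_le le_rfl le_sup_right)) le_sup_right
    fun z hz => ?_
  exact himg.le (H85.apply_mem_img (φ := ψ)
    (x := Subgroup.inclusion (sup_le le_rfl le_sup_right) z) hz)

/-- The part of a normal subgroup normalizing `X` is normal in the normalizer system. -/
theorem isNormal_inf_normalizer {X Q : Subgroup Ω} (hX : X ≤ S) (hQ : F.IsNormal Q)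
    {N : FusionSystem (normalizerIn S X)} (hN : F.IsNormalizerSystem X N) :
    N.IsNormal (Q ⊓ normalizerIn S X) := by
  refine ⟨inf_le_right, fun P φ hφ => ?_⟩
  rw [hN P] at hφ
  obtain ⟨-, hP, -, ψ, hψ, he, himg⟩ := H85.mem_normalizerHom.1 hφ
  obtain ⟨χ, hχ, hχe, hχQ⟩ := hQ.2 _ ψ hψ
  set Q₁ := Q ⊓ normalizerIn S X with hQ₁
  have hle : P ⊔ Q₁ ⊔ X ≤ P ⊔ X ⊔ Q := sup_le (sup_le (le_sup_left.trans le_sup_left)
    (inf_le_left.trans le_sup_right)) (le_sup_right.trans le_sup_left)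
  have hχ' := H85.restrict hχ hle
  have hχX : H85.img (χ.comp (Subgroup.inclusion hle)) X = X := by
    refine img_eq_of_mapsTo hχ' le_sup_right fun z hz => ?_
    have h1 := hχe ⟨(z : Ω), Subgroup.mem_sup_right hz⟩
    rw [MonoidHom.comp_apply, show Subgroup.inclusion hle z =
      Subgroup.inclusion le_sup_left (⟨(z : Ω), Subgroup.mem_sup_right hz⟩ : ↥(P ⊔ X)) from
        Subtype.ext rfl, h1]
    exact himg.le (H85.apply_mem_img (φ := ψ)
      (x := (⟨(z : Ω), Subgroup.mem_sup_right hz⟩ : ↥(P ⊔ X))) hz)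
  have hPQ : P ⊔ Q₁ ≤ normalizerIn S X := sup_le hP inf_le_right
  have hval := ext_values hX hχ' hPQ hχX
  refine ⟨(χ.comp (Subgroup.inclusion hle)).comp
    (Subgroup.inclusion (le_sup_left : P ⊔ Q₁ ≤ P ⊔ Q₁ ⊔ X)), ?_, fun x => ?_, ?_⟩
  · exact (hN _).symm ▸ H85.mem_normalizerHom.2 ⟨H85.restrict hχ' le_sup_left, hPQ,
      fun z => hval _, _, hχ', fun _ => rfl, hχX⟩
  · exact (congrArg χ (Subtype.ext rfl)).trans
      ((hχe (Subgroup.inclusion le_sup_left x)).trans (he x))
  · refine img_eq_of_mapsTo (H85.restrict hχ' le_sup_left) le_sup_right fun z hz =>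
      ⟨hχQ.le (H85.apply_mem_img (φ := χ)
        (x := Subgroup.inclusion hle (Subgroup.inclusion le_sup_left z)) hz.1), hval _⟩

/-- An automorphism of a subsystem of `C_N(K)` extends so as to fix `W`. -/
theorem exists_fix (hS : IsPGroup p S) (hF : F.IsSaturated p) {X K W : Subgroup Ω}
    (hX : F.IsFullyNormalized X) (hW : F.StronglyClosed W) (hXK : X ≤ K)
    (hWK : W ⊓ normalizerIn S X ≤ K) {N : FusionSystem (normalizerIn S X)}
    (hN : F.IsNormalizerSystem X N) {P : Subgroup Ω} {a : MulAut P}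
    (ha : P.subtype.comp a.toMonoidHom ∈ N.centralizerHom K P)
    (hord : (orderOf a).Coprime p) :
    ∃ ψ ∈ F.Hom (P ⊔ W), (∀ x : P, ψ (Subgroup.inclusion le_sup_left x) = a x) ∧
      ∀ w : W, ψ (Subgroup.inclusion le_sup_right w) = w := by
  obtain ⟨-, -, -, ψ, hψ, he, hfix⟩ := ha
  have hZN : P ⊔ K ≤ normalizerIn S X := H85.source_le hψ
  rw [hN (P ⊔ K)] at hψ
  obtain ⟨b, hb, hbo, hbe, hbK⟩ := exists_aut_fix hψ.1 he hfix
  have hC : centralizerIn W X ≤ P ⊔ K := fun c hc => Subgroup.mem_sup_right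
    (hWK ⟨hc.1, hW.1 hc.1, (Subgroup.centralizer_le_normalizer (X : Set Ω)) hc.2⟩)
  obtain ⟨χ, hχ, hχe, hχW⟩ := ext_closed hS hF
    (H85.fullyCentralized_of_fullyNormalized hS hF hX) hW (hXK.trans le_sup_right)
    (hZN.trans (H85.normalizerIn_le X)) hC hb (Nat.Coprime.coprime_dvd_left hbo hord)
    (fun z hz => hbK z (hXK hz)) (fun z hz => hbK z (hWK ⟨hz, hZN z.2⟩))
  refine ⟨_, H85.restrict hχ (sup_le_sup_right (le_sup_left : P ≤ P ⊔ K) W), fun x => ?_,
    fun w => hχW w⟩
  exact (hχe (Subgroup.inclusion le_sup_left x)).trans (hbe x)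

/-- A subgroup of `C_S(E)` centralizing the core lies in it. -/
theorem le_core_of_centE (hS : IsPGroup p S) (hE : E.IsLayerOf F p) {Y : Subgroup Ω}
    (hYE : Y ≤ centE p F E) (hYQ : Y ≤ centralizerIn S F.core) : Y ≤ F.core := by
  obtain ⟨C, hCn, -⟩ := exists_centralizer_normal hS hE.1
  have hWS : centE p F E ≤ S := centE_le.trans inf_le_left
  haveI : Finite (centE p F E) := H85.finite_of_le hWS
  have hWp : IsPGroup p (centE p F E) := hS.to_le hWS
  have hCc : C.IsConstrained p := by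
    by_contra hnc
    obtain ⟨V, K, hK⟩ := exists_component_of_not_constrained hWp hCn.1.1 hnc
    have hKF : K.IsComponentIn F p :=
      ⟨subnormal_trans hK.1 (.step (.refl C p) hCn), hK.2⟩
    have hVW : V ≤ centE p F E := (H87.fullyNormalized_of_subnormal hK.1 hWp hCn.1.1).1
    have hVT : V ≤ T := H85.source_le (hE.2.1 V K hKF V (H85.id_mem K le_rfl))
    haveI : Finite V := H85.finite_of_le hVW
    refine H87.not_isMulCommutative_of_quasisimple (hWp.to_le hVW) K hK.2 ⟨⟨fun a b => ?_⟩⟩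
    exact Subtype.ext ((H85.mem_centralizerIn.1 (centE_le (hVW a.2))).2 _ (hVT b.2)).symm
  obtain ⟨-, hcc, -⟩ := core_spec hWp hCc
  have hcQ : C.core ≤ F.core := le_sSup (core_normal_of_weaklyNormal hS hCn.1)
  exact fun y hy => hcQ (H85.centric_self hcc (H85.mem_centralizerIn.2
    ⟨hYE hy, fun q hq => (H85.mem_centralizerIn.1 (hYQ hy)).2 q (hcQ hq)⟩))

/-- The base of a component of the normalizer lies in the hyperfocal subgroup of the local system. -/
theorem component_base_le (d : Data p F E) (hE : E.IsLayerOf F p) {X : Subgroup Ω}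
    (hX : F.IsFullyNormalized X) {N : FusionSystem (normalizerIn S X)}
    (hN : F.IsNormalizerSystem X N) {H : FusionSystem (normalizerIn (X ⊔ T) X)}
    (hH : H.IsWeaklyNormalIn N p) {U : Subgroup Ω} {C : FusionSystem U}
    (hC : C.IsComponentIn N p) : U ≤ H.hyperfocalSubgroup p := by
  have hS := d.hS
  have hF := d.satF
  have hXS := hX.1
  have hNS : normalizerIn S X ≤ S := H85.normalizerIn_le X
  haveI : Finite (normalizerIn S X) := H85.finite_of_le hNS
  have hNp : IsPGroup p (normalizerIn S X) := hS.to_le hNS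
  haveI : Finite (normalizerIn (X ⊔ T) X) := H85.finite_of_le
    ((H85.normalizerIn_le X).trans (sup_le hXS d.le_base))
  have hM := residual_normal hNp hH
  have hW : HasWedge.{u} p := fun _ _ _ _ _ _ _ hS hM hN => H87.exists_wedge hS hM hN
  rcases component_dichotomy hW (hasProducts p) hNp hC hM with hCM | ⟨hcent, -⟩
  · have hsub : C.IsSubsystemOf H := fun P φ hφ => (subnormal_sub hCM.1 P hφ).1
    exact hC.2.2.1.symm.le.trans (H75.Res.hyperfocal_mono hsub)
  exfalso
  have hUN : U ≤ normalizerIn S X := (H87.fullyNormalized_of_subnormal hC.1 hNp hH.2.1).1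
  haveI : Finite U := H85.finite_of_le hUN
  set X' := X ⊔ (F.core ⊓ normalizerIn S X) with hX'
  have hcQ : C.IsSubsystemOf (H85.centralizerSystem N X' _) :=
    H87.component_centralizes hNp hC
      (H86.isNormal_sup N (isNormal_normalizer hXS hN)
        (isNormal_inf_normalizer hXS (core_isNormal F) hN))
  have hTV : T ⊓ normalizerIn S X ≤ normalizerIn (X ⊔ T) X :=
    fun t ht => ⟨Subgroup.mem_sup_right ht.1, ht.2.2⟩
  have hXV : X ≤ normalizerIn (X ⊔ T) X := H85.le_normalizerIn le_sup_left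
  have hext : ∀ P : Subgroup Ω, P ≤ U → ∀ a ∈ C.autGroup P, (orderOf a).Coprime p →
      (∃ ψ ∈ F.Hom (P ⊔ T), (∀ x : P, ψ (Subgroup.inclusion le_sup_left x) = a x) ∧
        ∀ w : T, ψ (Subgroup.inclusion le_sup_right w) = w) ∧
      ∃ ψ ∈ F.Hom (P ⊔ F.core), (∀ x : P, ψ (Subgroup.inclusion le_sup_left x) = a x) ∧
        ∀ w : F.core, ψ (Subgroup.inclusion le_sup_right w) = w :=
    fun P hP a ha hord =>
      ⟨exists_fix hS hF hX d.closedT hXV hTV hN (hcent P ((H85.mem_autGroup hP).1 ha)) hord,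
        exists_fix hS hF hX (H85.stronglyClosed_of_isNormal (core_isNormal F)) le_sup_left
          le_sup_right hN (hcQ P ((H85.mem_autGroup hP).1 ha)) hord⟩
  have hUT : U ≤ centralizerIn S T := hC.2.2.1.symm.le.trans
    (H87.hyperfocal_le_of_trivial fun P hP a ha hord x => by
      obtain ⟨⟨ψ, hψ, he, hfix⟩, -⟩ := hext P hP a ha hord
      exact displace_centralizes d.closedT hψ he hfix x)
  have hUQ : U ≤ centralizerIn S F.core := hC.2.2.1.symm.le.trans
    (H87.hyperfocal_le_of_trivial fun P hP a ha hord x => by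
      obtain ⟨-, ψ, hψ, he, hfix⟩ := hext P hP a ha hord
      exact displace_centralizes (H85.stronglyClosed_of_isNormal (core_isNormal F)) hψ he hfix x)
  have hUE : U ≤ centE p F E := hC.2.2.1.symm.le.trans
    (H87.hyperfocal_le_of_trivial fun P hP a ha hord x => by
      obtain ⟨⟨ψ, hψ, he, hfix⟩, -⟩ := hext P hP a ha hord
      refine displace_mem_centE hS d.hE (hP.trans hUT) ((H85.mem_autGroup
        (F := H85.centralizerSystem F T d.hE.1.2.2.2.1.1) (hP.trans hUT)).2 ?_) x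
      exact ⟨H85.of_extend hψ le_sup_left he, hP.trans hUT, fun y => hUT (hP (a y).2),
        ψ, hψ, he, hfix⟩)
  have hUc := le_core_of_centE hS hE hUE hUQ
  refine H87.not_isMulCommutative_of_quasisimple (hNp.to_le hUN) C hC.2 ⟨⟨fun a b => ?_⟩⟩
  exact Subtype.ext ((H85.mem_centralizerIn.1 (hUQ b.2)).2 _ (hUc a.2))

/-- A saturated subsystem of the product over a subgroup of `T` lies in `E`. -/
theorem sub_of_le (d : Data p F E) {U : Subgroup Ω} {G : FusionSystem U} (hG : G.IsSaturated p)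
    (hGD : G.IsSubsystemOf (prodSys d)) (hUT : U ≤ T) : G.IsSubsystemOf E := by
  have hUS := hUT.trans d.le_base
  haveI : Finite U := H85.finite_of_le hUS
  let M : FusionSystem U :=
    { Hom := fun P => {φ | φ ∈ G.Hom P ∧ φ ∈ E.Hom P}
      le_of_mem := fun hφ => G.le_of_mem hφ.1
      injective_of_mem := fun hφ => G.injective_of_mem hφ.1
      conj_mem := fun hP hg => ⟨G.conj_mem hP hg, E.conj_mem (hP.trans hUT) (hUT hg)⟩
      comp_mem := fun hφ hψ hh => ⟨G.comp_mem hφ.1 hψ.1 hh, E.comp_mem hφ.2 hψ.2 hh⟩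
      inv_mem := by
        intro P φ hφ
        obtain ⟨ψ, hψ, hx⟩ := G.inv_mem hφ.1
        obtain ⟨ψ', hψ', hx'⟩ := E.inv_mem hφ.2
        refine ⟨ψ, ⟨hψ, ?_⟩, hx⟩
        refine H85.hom_congr hψ' ?_
        rintro ⟨_, x, rfl⟩
        rw [hx' x, hx x] }
  have hle : G ≤ M := by
    refine H85.le_of_essential (d.hS.to_le hUS) hG M ?_
    intro P hP
    have hPn : G.IsFullyNormalized P := by
      rcases hP with rfl | hP
      · exact H85.fullyNormalized_top G
      · exact hP.2.1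
    have hPU := hPn.1
    haveI := H85.finite_autGroup G hPU
    obtain ⟨-, R, hR⟩ := H85.fullyAutomized_of_fullyNormalized (d.hS.to_le hUS) hG hPn
    refine Subgroup.subgroupOf_eq_top.1 (H87.pResidual_sup_eq_top (p := p) R ?_ ?_)
    · rw [hR]
      exact Subgroup.comap_mono (H85.autInducedBy_le_autGroup M hPU)
    · refine (Subgroup.closure_le _).2 fun a ha => ?_
      have hord : (orderOf (a : MulAut P)).Coprime p := by rw [Subgroup.orderOf_coe]; exact ha
      have haD : (a : MulAut P) ∈ (prodSys d).autGroup P :=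
        (H85.mem_autGroup (hPU.trans hUS)).2 (hGD P ((H85.mem_autGroup hPU).1 a.2))
      obtain ⟨-, e, he, hee⟩ :=
        coprime_props d (hPU.trans hUS) (autGroup_le_naive d P haD) hord
      refine (H85.mem_autGroup hPU).2 ⟨(H85.mem_autGroup hPU).1 a.2, ?_⟩
      exact H85.of_extend he (le_inf le_rfl (hPU.trans hUT)) fun x => (hee ⟨x, x.2, hUT (hPU x.2)⟩).symm
  exact fun P φ hφ => (hle P hφ).2

/-- E-balance. -/
theorem layer_balance (hS : IsPGroup p S) (hF : F.IsSaturated p) {X : Subgroup Ω}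
    (hX : F.IsFullyNormalized X) {N : FusionSystem (normalizerIn S X)}
    (hN : F.IsNormalizerSystem X N) {U : Subgroup Ω} {EN : FusionSystem U}
    (hEN : EN.IsLayerOf N p) (hE : E.IsLayerOf F p) : EN.IsSubsystemOf E := by
  have d : Data p F E := ⟨hS, hE.1⟩
  obtain ⟨H, hH, hHD⟩ := exists_local d hX hN
  haveI : Finite (normalizerIn S X) := H85.finite_of_le (H85.normalizerIn_le X)
  have hNp : IsPGroup p (normalizerIn S X) := hS.to_le (H85.normalizerIn_le X)
  have hVS : normalizerIn (X ⊔ T) X ≤ S :=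
    (H85.normalizerIn_le X).trans (sup_le hX.1 d.le_base)
  haveI : Finite (normalizerIn (X ⊔ T) X) := H85.finite_of_le hVS
  obtain ⟨E₀, hE₀, hE₀i⟩ := exists_powerIndex _ (hS.to_le hVS) H hH.1 (H.hyperfocalSubgroup p)
    (H86.hyperfocal_le H p) le_rfl le_rfl
  have hM := residual_normal hNp (H75.Res.weaklyNormal_powerIndex hNp hH ⟨hE₀, hE₀i⟩)
  have hW : HasWedge.{u} p := fun _ _ _ _ _ _ _ hS hM hN => H87.exists_wedge hS hM hN
  have hsub : EN.IsSubsystemOf (minSysCl p E₀) := hEN.2.2 _ _ hM fun V C hC =>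
    subnormal_sub (component_of_le_base hW hNp hC hM (component_base_le d hE hX hN hH hC)).1
  have hUh : U ≤ H.hyperfocalSubgroup p := H85.source_le (hsub U (H85.id_mem EN le_rfl))
  refine sub_of_le d hEN.1.1.1 (fun P φ hφ => hHD P (hE₀i.1 P (hsub P hφ).1)) ?_
  exact hUh.trans ((H75.Res.hyperfocal_mono hHD).trans (SE.hyp_le d))

end H89.Bal
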