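import Cfsg.Agent.H89.Balance.Slice
import Cfsg.Agent.H89.TransportComponent

/-!
Moving slices by maps of `F`, and pushing a map of a slice down to the slice of its source.
-/

set_option autoImplicit false
set_option linter.unusedSectionVars false

open Cfsg Cfsg.FusionSystem

namespace H89.Bal

open H86 H86.SE

variable {Ω : Type*} [Group Ω] {S T : Subgroup Ω} [Finite S] {p : ℕ} [Fact p.Prime]
  {F : FusionSystem S} {E : FusionSystem T}

theorem img_sup {R A B : Subgroup Ω} (n : R →* Ω) (hA : A ≤ R) (hB : B ≤ R) :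
    H85.img n (A ⊔ B) = H85.img n A ⊔ H85.img n B := by
  rw [H85.img, H85.img, H85.img, Subgroup.subgroupOf_sup hA hB, Subgroup.map_sup]

theorem img_T (d : Data p F E) {R : Subgroup Ω} {n : R →* Ω} (hn : n ∈ F.Hom R) (hTR : T ≤ R) :
    H85.img n T = T := by
  have := d.finT
  refine Subgroup.eq_of_le_of_card_ge (fun y hy => ?_)
    (H85.isConj_card (H85.isConj_img hn hTR)).le
  obtain ⟨x, hx, rfl⟩ := H85.mem_img.1 hy
  exact (d.mapT hn x).2 hx

/-- The image of `A T` under a map of `F`. -/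
theorem range_eq_img_sup (d : Data p F E) {R A : Subgroup Ω} {n : R →* Ω} (hn : n ∈ F.Hom R)
    (hA : A ≤ R) (hTR : T ≤ R) (hAR : A ⊔ T = R) : n.range = H85.img n A ⊔ T := by
  calc n.range = H85.img n R := (H85.img_self n).symm
    _ = H85.img n (A ⊔ T) := by rw [hAR]
    _ = H85.img n A ⊔ T := by rw [img_sup n hA hTR, img_T d hn hTR]

/-- A map of the product with values in `P T` has image generating `P T` with `T`. -/
theorem range_sup (d : Data p F E) {P : Subgroup Ω} {φ : P →* Ω} (hφ : φ ∈ (prodSys d).Hom P)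
    (hv : ∀ x, φ x ∈ P ⊔ T) : φ.range ⊔ T = P ⊔ T := by
  have hPS : P ≤ S := H85.source_le hφ
  obtain ⟨-, s, hs, h1, -⟩ := prodSys_le_naive d P hφ
  set c : Ω →* Ω := (MulAut.conj s).toMonoidHom with hc
  have : Finite ↥(P ⊔ T) := H85.finite_of_le (sup_le hPS d.le_base)
  have hle : φ.range ⊔ T ≤ P ⊔ T :=
    sup_le (by rintro _ ⟨x, rfl⟩; exact hv x) le_sup_right
  have hmap : (P ⊔ T).map c ≤ φ.range ⊔ T := by
    rw [Subgroup.map_sup]
    refine sup_le ?_ ?_
    · rintro _ ⟨x, hx, rfl⟩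
      have h2 := (φ.range ⊔ T).mul_mem (Subgroup.mem_sup_left (⟨⟨x, hx⟩, rfl⟩ : φ ⟨x, hx⟩ ∈ φ.range))
        ((φ.range ⊔ T).inv_mem (Subgroup.mem_sup_right (h1 ⟨x, hx⟩)))
      rw [show φ ⟨x, hx⟩ * ((s * x * s⁻¹)⁻¹ * φ ⟨x, hx⟩)⁻¹ = s * x * s⁻¹ by group] at h2
      exact h2
    · rintro _ ⟨t, ht, rfl⟩
      exact Subgroup.mem_sup_right (d.conjT hs ht)
  refine le_antisymm hle ?_
  rw [← Subgroup.eq_of_le_of_card_ge (hmap.trans hle)
    (Subgroup.card_map_of_injective (MulAut.conj s).injective).ge]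
  exact hmap

/-- Maps of `F` carry slices to slices. -/
theorem inv_map (d : Data p F E) {R : Subgroup Ω} {G : FusionSystem R} (hG : IsSlice d G)
    {n : R →* Ω} (hn : n ∈ F.Hom R) {R' : Subgroup Ω} (hR' : n.range = R')
    {G' : FusionSystem R'} (hG' : IsSlice d G') {P : Subgroup Ω} {φ : P →* Ω}
    (hφ : φ ∈ G.Hom P) :
    ∃ χ ∈ G'.Hom (H85.img n P), ∀ x : P,
      χ ⟨n ⟨x, H85.source_le hφ x.2⟩,
          H85.apply_mem_img (φ := n) (x := (⟨x, H85.source_le hφ x.2⟩ : R)) x.2⟩ =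
        n ⟨φ x, H85.map_mem hφ x⟩ := by
  have : Finite R := H85.finite_of_le hG.leS
  have : Finite R' := H85.finite_of_le hG'.leS
  have hRp : IsPGroup p R := d.hS.to_le hG.leS
  let f : R ≃* R' := H85.isoOf n hn hR'
  obtain ⟨G'', hG''⟩ := Tp.exists_tr_top f.symm G'
  have hback : Tp.Tr f G'' G' := Tp.Tr.congr hG''.symm rfl
  have hle : G ≤ G'' := by
    refine H85.le_of_essential hRp hG.sat G'' ?_
    intro Q hQ
    have hQn : G.IsFullyNormalized Q := by
      rcases hQ with rfl | hQ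
      · exact H85.fullyNormalized_top G
      · exact hQ.2.1
    have hQR := hQn.1
    have hc := hG.centric_special hQ
    obtain ⟨-, Sy, hSy⟩ := H85.fullyAutomized_of_fullyNormalized hRp hG.sat hQn
    have : Finite (G.autGroup Q) := H85.finite_autGroup G hQR
    refine Subgroup.subgroupOf_eq_top.1 (H87.pResidual_sup_eq_top (p := p) Sy ?_ ?_)
    · rw [hSy]
      exact Subgroup.comap_mono (H85.autInducedBy_le_autGroup G'' hQR)
    · refine (Subgroup.closure_le _).2 fun a ha => ?_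
      have hord : (orderOf (a : MulAut Q)).Coprime p := by rw [Subgroup.orderOf_coe]; exact ha
      have hanv := hG.mem_nv hQR a.2 hord
      let e : Q ≃* Tp.im f Q := Tp.res f Q (hQR.trans hback.le)
      have he : H85.IsFIso F e := by
        refine H85.hom_congr (H85.restrict hn hQR) fun x => ?_
        rfl
      obtain ⟨eU, heU, -⟩ := exists_eU d he
      have h' : MulAut.congr e (a : MulAut Q) ∈ G'.autGroup (Tp.im f Q) := by
        refine hG'.coprime_mem (Tp.im_le f Q) (centric_of_conj d.hE.1 hc heU.isConj)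
          (congr_nv d he hanv) ?_
        rwa [MulEquiv.orderOf_eq]
      obtain ⟨α, hα, hαe⟩ := hback.aut_inv hQR h'
      have : α = (a : MulAut Q) := MulEquiv.ext fun x => by
        have h := hαe x
        change e ((a : MulAut Q) (e.symm (e x))) = e (α x) at h
        rw [e.symm_apply_apply] at h
        exact (e.injective h).symm
      show (a : MulAut Q) ∈ G''.autGroup Q
      rw [← this]
      exact hα
  obtain ⟨χ, hχ, hχe⟩ := hback.push' (hle P hφ)
  have him : H85.img n P ≤ Tp.im f P := by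
    intro y hy
    obtain ⟨x, hx, rfl⟩ := H85.mem_img.1 hy
    exact ⟨x, hx, rfl⟩
  refine ⟨_, H85.restrict hχ him, fun x => ?_⟩
  exact hχe x (H85.source_le hφ x.2) (H85.map_mem hφ x)

/-- A map of a slice is a map of the slice of its source followed by a map of `F`. -/
theorem slice_res (d : Data p F E) {R : Subgroup Ω} {G : FusionSystem R} (hG : IsSlice d G)
    {P : Subgroup Ω} {φ : P →* Ω} (hφ : φ ∈ G.Hom P) {R₀ : Subgroup Ω} {G₀ : FusionSystem R₀}
    (hG₀ : IsSlice d G₀) (hR₀ : R₀ = P ⊔ T) :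
    ∃ φ₀ ∈ G₀.Hom P, ∃ n ∈ F.Hom R₀, (∀ z, n z ∈ R) ∧
      ∀ (x : P) (h : φ₀ x ∈ R₀), φ x = n ⟨φ₀ x, h⟩ := by
  suffices main : ∀ (m : ℕ) (R : Subgroup Ω) (G : FusionSystem R), IsSlice d G →
      Nat.card R ≤ m → ∀ φ ∈ G.Hom P, ∃ φ₀ ∈ G₀.Hom P, ∃ n ∈ F.Hom R₀, (∀ z, n z ∈ R) ∧
        ∀ (x : P) (h : φ₀ x ∈ R₀), φ x = n ⟨φ₀ x, h⟩ from main _ R G hG le_rfl φ hφ
  intro m
  induction m using Nat.strong_induction_on with
  | _ m ih =>
  intro R G hG hm φ hφ
  have hle : R₀ ≤ R := hR₀ ▸ sup_le (H85.source_le hφ) hG.leT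
  rcases eq_or_lt_of_le hle with rfl | hlt
  · obtain rfl := hG.unique hG₀
    exact ⟨φ, hφ, R₀.subtype, H85.id_mem F hG.leS, fun z => z.2, fun x _ => rfl⟩
  have hRS := hG.leS
  have : Finite R := H85.finite_of_le hRS
  have hRp : IsPGroup p R := d.hS.to_le hRS
  have hne : R₀.subgroupOf R ≠ ⊤ := fun h => hlt.not_ge (Subgroup.subgroupOf_eq_top.1 h)
  obtain ⟨M', hM', hRM'⟩ := (eq_top_or_exists_le_coatom (R₀.subgroupOf R)).resolve_left hne
  set M := M'.map R.subtype with hM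
  have hMR : M ≤ R := Subgroup.map_subtype_le _
  have hsub : M.subgroupOf R = M' :=
    Subgroup.comap_map_eq_self_of_injective R.subtype_injective M'
  have hRM : R₀ ≤ M := fun x hx => ⟨⟨x, hle hx⟩, hRM' hx, rfl⟩
  have hnM : (M.subgroupOf R).Normal :=
    hsub.symm ▸ H6.normal_of_index_eq_prime hRp (H6.index_eq_prime_of_isCoatom hRp hM')
  have hTM : T ≤ M := le_sup_right.trans (hR₀.ge.trans hRM)
  obtain ⟨GM, hGM⟩ := exists_slice d hTM (hMR.trans hRS)
  have hlt' : Nat.card M < Nat.card R := by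
    refine lt_of_le_of_ne (Subgroup.card_le_of_le hMR) fun h => hM'.1 ?_
    rw [← hsub, Subgroup.subgroupOf_eq_top, Subgroup.eq_of_le_of_card_ge hMR h.ge]
  have hGMG : GM.IsSubsystemOf G := H87.subsystem_of_pResidual d.hS hGM.sat hGM.idx.1 G hMR
    fun Q hQ => hG.idx.2.2 Q (hQ.trans hMR)
  have hidx : GM.HasPPowerIndexIn G p := by
    refine ⟨hGMG, hG.hyp_le.trans hTM, fun Q hQ => ?_⟩
    exact ((H87.pResidual_map_mono hG.idx.1 Q).trans (hGM.idx.2.2 Q hQ))
  obtain ⟨⟨-, -, -, -, -, hfr⟩, -⟩ :=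
    isNormalIn_of_powerIndex hRp hG.sat hMR hnM (hG.hyp_le.trans hTM) hGM.sat hidx
  have hPM : P ≤ M := le_sup_left.trans (hR₀.ge.trans hRM)
  obtain ⟨α, hα, φ₁, h₁, he⟩ := hfr P hPM φ hφ
  obtain ⟨φ₀, h₀, n₁, hn₁, hn₁M, hn₁e⟩ :=
    ih (Nat.card M) (lt_of_lt_of_le hlt' hm) M GM hGM le_rfl φ₁ h₁
  have hαF : M.subtype.comp α.toMonoidHom ∈ F.Hom M := hG.sub _ ((H85.mem_autGroup hMR).1 hα)
  refine ⟨φ₀, h₀, _, F.comp_mem hn₁ hαF hn₁M, fun z => hMR (α _).2, fun x h => ?_⟩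
  rw [he x ((GM.le_of_mem h₁).2 x)]
  exact congrArg (fun w : M => (α w : Ω)) (Subtype.ext (hn₁e x h))

end H89.Bal
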