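import Cfsg.Agent.H86.SE.Main
import Cfsg.Agent.H86.SubsystemEq

/-!
The automorphisms of a subgroup trivial modulo `T` and inside `E` on the part in `T`.
-/

set_option autoImplicit false
set_option linter.unusedSectionVars false

open Cfsg Cfsg.FusionSystem

namespace H89.Bal

open H86 H86.SE

variable {Ω : Type*} [Group Ω] {S T : Subgroup Ω} [Finite S] {p : ℕ} [Fact p.Prime]
  {F : FusionSystem S} {E : FusionSystem T}

theorem trivMod_mem_iff {P : Subgroup Ω} {a : MulAut P} (ha : a ∈ trivMod T P) (x : P) :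
    ((a x : P) : Ω) ∈ T ↔ (x : Ω) ∈ T := by
  refine ⟨fun h => ?_, fun h => trivMod_mapsTo ha le_rfl h⟩
  have h1 := T.mul_mem h (T.inv_mem (ha x))
  simpa using h1

theorem trivMod_inf {P : Subgroup Ω} {a : MulAut P} (ha : a ∈ trivMod T P) :
    a ∈ trivMod (P ⊓ T) P :=
  fun x => ⟨P.mul_mem (P.inv_mem x.2) (a x).2, ha x⟩

/-- The restriction to the part in `T`. -/
def resU {P : Subgroup Ω} (a : MulAut P) (ha : a ∈ trivMod T P) : MulAut ↥(P ⊓ T) :=
  H85.subEquiv a inf_le_left inf_le_left fun x =>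
    ⟨fun h => ⟨x.2, (trivMod_mem_iff ha x).1 h.2⟩,
      fun h => ⟨(a x).2, (trivMod_mem_iff ha x).2 h.2⟩⟩

theorem resU_apply {P : Subgroup Ω} (a : MulAut P) (ha : a ∈ trivMod T P) (x : ↥(P ⊓ T)) :
    (resU a ha x : Ω) = a ⟨x, x.2.1⟩ := rfl

theorem resU_mul {P : Subgroup Ω} {a b : MulAut P} (ha : a ∈ trivMod T P) (hb : b ∈ trivMod T P) :
    resU (a * b) (mul_mem ha hb) = resU a ha * resU b hb :=
  MulEquiv.ext fun _ => Subtype.ext rfl

theorem resU_one {P : Subgroup Ω} : resU (1 : MulAut P) (one_mem (trivMod T P)) = 1 :=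
  MulEquiv.ext fun _ => Subtype.ext rfl

theorem resU_inv {P : Subgroup Ω} {a : MulAut P} (ha : a ∈ trivMod T P) :
    resU a⁻¹ (inv_mem ha) = (resU a ha)⁻¹ := by
  refine eq_inv_of_mul_eq_one_left ?_
  rw [← resU_mul (inv_mem ha) ha]
  refine MulEquiv.ext fun x => Subtype.ext ?_
  show (((a⁻¹ * a) ⟨x, x.2.1⟩ : P) : Ω) = (x : Ω)
  rw [inv_mul_cancel]
  rfl

/-- Automorphisms in `F` trivial modulo `T` that lie in `E` on the part in `T`. -/
def nv (F : FusionSystem S) (E : FusionSystem T) (P : Subgroup Ω) : Subgroup (MulAut P) where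
  carrier := {a | a ∈ F.autGroup P ∧ ∃ h : a ∈ trivMod T P, resU a h ∈ E.autGroup (P ⊓ T)}
  one_mem' := ⟨one_mem _, one_mem _, by rw [resU_one]; exact one_mem _⟩
  mul_mem' := by
    rintro a b ⟨ha, hat, hae⟩ ⟨hb, hbt, hbe⟩
    exact ⟨mul_mem ha hb, mul_mem hat hbt, by rw [resU_mul hat hbt]; exact mul_mem hae hbe⟩
  inv_mem' := by
    rintro a ⟨ha, hat, hae⟩
    exact ⟨inv_mem ha, inv_mem hat, by rw [resU_inv hat]; exact inv_mem hae⟩

theorem mem_nv {P : Subgroup Ω} {a : MulAut P} :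
    a ∈ nv F E P ↔ a ∈ F.autGroup P ∧
      ∃ h : a ∈ trivMod T P, resU a h ∈ E.autGroup (P ⊓ T) := Iff.rfl

theorem nv_le {P : Subgroup Ω} : nv F E P ≤ F.autGroup P := fun _ h => h.1

theorem nv_trivMod {P : Subgroup Ω} {a : MulAut P} (h : a ∈ nv F E P) : a ∈ trivMod T P := h.2.1

theorem nv_res {P : Subgroup Ω} {a : MulAut P} (h : a ∈ nv F E P) :
    resU a (nv_trivMod h) ∈ E.autGroup (P ⊓ T) := h.2.2

theorem coprime_mem_nv (d : Data p F E) {P : Subgroup Ω} (hP : P ≤ S) {a : MulAut P}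
    (ha : a ∈ (naive d).autGroup P) (hord : (orderOf a).Coprime p) : a ∈ nv F E P := by
  obtain ⟨ht, e, he, hee⟩ := coprime_props d hP ha hord
  refine ⟨(H85.mem_autGroup hP).2 ((H85.mem_autGroup hP).1 ha).1, ht,
    (H85.mem_autGroup inf_le_right).2 (H85.hom_congr he fun x => ?_)⟩
  exact (hee x).symm

theorem prodSys_coprime_mem_nv (d : Data p F E) {P : Subgroup Ω} (hP : P ≤ S) {a : MulAut P}
    (ha : a ∈ (prodSys d).autGroup P) (hord : (orderOf a).Coprime p) : a ∈ nv F E P :=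
  coprime_mem_nv d hP (autGroup_le_naive d P ha) hord

theorem induced_le_nv (d : Data p F E) {P : Subgroup Ω} (hP : P ≤ S) :
    autInducedBy T P ≤ nv F E P := by
  intro a ha
  obtain ⟨g, hg, hga⟩ := H85.mem_autInducedBy.1 ha
  have ht : a ∈ trivMod T P := fun x => by
    rw [hga x, show (x : Ω)⁻¹ * (g * (x : Ω) * g⁻¹) = ((x : Ω)⁻¹ * g * (x : Ω)) * g⁻¹ by group]
    exact T.mul_mem (d.conjT' (hP x.2) hg) (T.inv_mem hg)
  refine ⟨(H85.mem_autGroup hP).2 (H85.isFIso_of_mem_autInducedBy F hP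
    (H85.mem_autInducedBy.2 ⟨g, d.le_base hg, hga⟩)), ht, ?_⟩
  exact H85.autInducedBy_le_autGroup E inf_le_right
    (H85.mem_autInducedBy.2 ⟨g, hg, fun x => hga ⟨x, x.2.1⟩⟩)

/-- Transport of the part in `T`. -/
theorem exists_eU (d : Data p F E) {P P' : Subgroup Ω} {e : P ≃* P'} (he : H85.IsFIso F e) :
    ∃ eU : ↥(P ⊓ T) ≃* ↥(P' ⊓ T), H85.IsFIso F eU ∧
      ∀ x : ↥(P ⊓ T), (eU x : Ω) = e ⟨x, x.2.1⟩ := by
  have hm : ∀ x : P, (e x : Ω) ∈ P' ⊓ T ↔ (x : Ω) ∈ P ⊓ T := fun x =>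
    ⟨fun h => ⟨x.2, (d.mapT he x).1 h.2⟩, fun h => ⟨(e x).2, (d.mapT he x).2 h.2⟩⟩
  exact ⟨H85.subEquiv e inf_le_left inf_le_left hm,
    H85.isFIso_subEquiv he inf_le_left inf_le_left hm, fun _ => rfl⟩

theorem congr_nv (d : Data p F E) {P P' : Subgroup Ω} {e : P ≃* P'} (he : H85.IsFIso F e)
    {a : MulAut P} (ha : a ∈ nv F E P) : MulAut.congr e a ∈ nv F E P' := by
  obtain ⟨haF, hat, hae⟩ := ha
  have ht : MulAut.congr e a ∈ trivMod T P' := fun y => by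
    obtain ⟨x, rfl⟩ := e.surjective y
    have h1 := (d.mapT he (x⁻¹ * a x)).2 (hat x)
    show (e x : Ω)⁻¹ * (e (a (e.symm (e x))) : Ω) ∈ T
    rw [e.symm_apply_apply]
    simpa using h1
  refine ⟨(H85.mem_autGroup he.right_le).2
    ((((he.symm.trans ((H85.mem_autGroup he.left_le).1 haF)).trans he)).congr fun _ => rfl), ht, ?_⟩
  obtain ⟨eU, heU, heq⟩ := exists_eU d he
  have h : resU (MulAut.congr e a) ht = MulAut.congr eU (resU a hat) := by
    refine MulEquiv.ext fun y => ?_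
    obtain ⟨x, rfl⟩ := eU.surjective y
    refine Subtype.ext ?_
    show (e (a (e.symm ⟨(eU x : Ω), _⟩)) : Ω) = (eU (resU a hat (eU.symm (eU x))) : Ω)
    rw [eU.symm_apply_apply]
    refine (congrArg (fun z : P' => (e (a (e.symm z)) : Ω))
      (show (⟨(eU x : Ω), (eU x).2.1⟩ : P') = e ⟨x, x.2.1⟩ from Subtype.ext (heq x))).trans ?_
    rw [e.symm_apply_apply, heq]
    exact congrArg (fun z => (e z : Ω)) (Subtype.ext rfl)
  rw [h]
  exact eaut_congr d inf_le_right heU hae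

theorem nv_normal (d : Data p F E) {P : Subgroup Ω} (hP : P ≤ S) {a k : MulAut P}
    (ha : a ∈ F.autGroup P) (hk : k ∈ nv F E P) : a * k * a⁻¹ ∈ nv F E P := by
  rw [← H85.congr_eq_conj]
  exact congr_nv d ((H85.mem_autGroup hP).1 ha) hk

end H89.Bal
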