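import Cfsg.Agent.H89.Balance.Key
import Cfsg.Agent.H86.Products
import Cfsg.Agent.H86.PowerExists
import Cfsg.Agent.H86.PowerNormal
import Cfsg.Agent.H86.Induction
import Cfsg.Agent.H85.Essential
import Cfsg.Agent.H85.Alperin

/-!
Slices of the product: the saturated subsystems of `p`-power index over the subgroups containing
`T`; radical subgroups of systems between `E` and `F` have `E`-centric parts in `T`.
-/

set_option autoImplicit false
set_option linter.unusedSectionVars false

open Cfsg Cfsg.FusionSystem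
open scoped Pointwise

namespace H89.Bal

open H86 H86.SE

variable {Ω : Type*} [Group Ω] {S T : Subgroup Ω} [Finite S] {p : ℕ} [Fact p.Prime]
  {F : FusionSystem S} {E : FusionSystem T}

/-- A slice of the product. -/
structure IsSlice (d : Data p F E) {R : Subgroup Ω} (G : FusionSystem R) : Prop where
  leT : T ≤ R
  leS : R ≤ S
  sat : G.IsSaturated p
  idx : G.HasPPowerIndexIn (prodSys d) p

theorem IsSlice.sub {d : Data p F E} {R : Subgroup Ω} {G : FusionSystem R} (h : IsSlice d G) :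
    G.IsSubsystemOf F := fun P φ hφ => prodSys_sub d P (h.idx.1 P hφ)

theorem IsSlice.subD {d : Data p F E} {R : Subgroup Ω} {G : FusionSystem R} (h : IsSlice d G) :
    G.IsSubsystemOf (prodSys d) := h.idx.1

theorem IsSlice.hasE {d : Data p F E} {R : Subgroup Ω} {G : FusionSystem R} (h : IsSlice d G) :
    E.IsSubsystemOf G :=
  H87.subsystem_of_pResidual d.hS d.satE (subE_prodSys d) G h.leT
    fun P hP => h.idx.2.2 P (hP.trans h.leT)

theorem IsSlice.hyp_le {d : Data p F E} {R : Subgroup Ω} {G : FusionSystem R} (h : IsSlice d G) :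
    G.hyperfocalSubgroup p ≤ T := by
  rw [H87.hyperfocal_eq_of_powerIndex d.hS h.idx]
  exact SE.hyp_le d

theorem IsSlice.unique {d : Data p F E} {R : Subgroup Ω} {G G' : FusionSystem R}
    (h : IsSlice d G) (h' : IsSlice d G') : G' = G :=
  H86.powerIndex_unique d.hS h.sat h.idx h'.sat h'.idx

theorem exists_slice (d : Data p F E) {R : Subgroup Ω} (hT : T ≤ R) (hR : R ≤ S) :
    ∃ G : FusionSystem R, IsSlice d G := by
  obtain ⟨G, hG, hGi⟩ := exists_powerIndex _ d.hS (prodSys d) (isSaturated_prodSys d) R hR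
    ((SE.hyp_le d).trans hT) le_rfl
  exact ⟨G, hT, hR, hG, hGi⟩

theorem isSlice_prodSys (d : Data p F E) : IsSlice d (prodSys d) :=
  ⟨d.le_base, le_rfl, isSaturated_prodSys d, fun _ _ h => h, H86.hyperfocal_le _ p,
    fun _ _ => Subgroup.map_subtype_le _⟩

/-- The criterion for membership in a slice. -/
theorem IsSlice.coprime_mem {d : Data p F E} {R : Subgroup Ω} {G : FusionSystem R}
    (h : IsSlice d G) {P : Subgroup Ω} (hP : P ≤ R) (hc : E.IsCentric (P ⊓ T)) {a : MulAut P}
    (ha : a ∈ nv F E P) (hord : (orderOf a).Coprime p) : a ∈ G.autGroup P :=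
  (H87.coprime_mem_of_powerIndex h.idx hP (conv d (hP.trans h.leS) hc ha hord) hord).1

/-- Elements of order prime to `p` of a slice are in `nv`. -/
theorem IsSlice.mem_nv {d : Data p F E} {R : Subgroup Ω} {G : FusionSystem R} (h : IsSlice d G)
    {P : Subgroup Ω} (hP : P ≤ R) {a : MulAut P} (ha : a ∈ G.autGroup P)
    (hord : (orderOf a).Coprime p) : a ∈ nv F E P :=
  prodSys_coprime_mem_nv d (hP.trans h.leS)
    ((H85.mem_autGroup (hP.trans h.leS)).2 (h.idx.1 P ((H85.mem_autGroup hP).1 ha))) hord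

/-- In a system between `E` and `F`, a centric radical subgroup meets `T` in an `E`-centric
subgroup. -/
theorem centric_of_radical (d : Data p F E) {R : Subgroup Ω} (hTR : T ≤ R) (hRS : R ≤ S)
    {G : FusionSystem R} (hG : G.IsSaturated p) (hGF : G.IsSubsystemOf F)
    (hEG : E.IsSubsystemOf G) {P : Subgroup Ω} (hc : G.IsCentric P) (hr : G.IsRadical p P) :
    E.IsCentric (P ⊓ T) := by
  have hPR := hc.1
  have hPS : P ≤ S := hPR.trans hRS
  have : Finite R := H85.finite_of_le hRS
  have hRp : IsPGroup p R := d.hS.to_le hRS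
  have hUR : P ⊓ T ≤ R := inf_le_left.trans hPR
  -- the stability group is made of inner automorphisms
  have hstab : ∀ k ∈ G.autGroup P, k ∈ fixTriv (P ⊓ T) P → k ∈ Cfsg.Inn P := by
    intro k hk hkf
    rw [← hr.2]
    let A : Subgroup (G.autGroup P) := (fixTriv (P ⊓ T) P).subgroupOf (G.autGroup P)
    have hst : ∀ c : MulAut P, c ∈ G.autGroup P → ∀ x : P, (x : Ω) ∈ P ⊓ T →
        ((c x : P) : Ω) ∈ P ⊓ T := fun c hc' x hx =>
      ⟨(c x).2, (d.mapT (hGF _ ((H85.mem_autGroup hPR).1 hc')) x).2 hx.2⟩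
    have hA : A ∈ {N : Subgroup (G.autGroup P) | N.Normal ∧ IsPGroup p N} := by
      refine ⟨⟨fun n hn c => fixTriv_conj (hst _ c.2) (hst _ ((G.autGroup P).inv_mem c.2)) hn⟩, ?_⟩
      intro c
      obtain ⟨j, hj⟩ := fixTriv_pow d.hS hPS c.2
      exact ⟨j, Subtype.ext (Subtype.ext hj)⟩
    exact ⟨⟨k, hk⟩, le_sSup hA hkf, rfl⟩
  obtain ⟨U', hUc, hU'⟩ := H85.exists_fullyNormalized G hUR
  obtain ⟨m, hm, -, himg⟩ := H85.exists_map_to_fullyNormalized hRp hG hU' hUc
  have hmF := hGF _ hm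
  have hPN : P ≤ normalizerIn R (P ⊓ T) := fun x hx =>
    ⟨hPR hx, (norm_inf d hPS (H85.le_normalizerIn hPS hx)).2⟩
  set P' := H85.img m P with hP'
  set e : P ≃* P' := H85.resIso m (G.injective_of_mem hm) hPN with hedef
  have he : H85.IsFIso G e := H85.isFIso_resIso hm hPN
  have heF : H85.IsFIso F e := hGF _ he
  have hP'R : P' ≤ R := he.right_le
  have hU : P' ⊓ T = U' := by
    rw [← himg]
    refine le_antisymm (fun y hy => ?_) fun y hy => ?_
    · obtain ⟨x, hx, rfl⟩ := H85.mem_img.1 hy.1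
      exact H85.apply_mem_img ⟨hx, (d.mapT hmF x).1 hy.2⟩
    · obtain ⟨x, hx, rfl⟩ := H85.mem_img.1 hy
      exact ⟨H85.apply_mem_img hx.1, (d.mapT hmF x).2 hx.2⟩
  have hU'c : G.IsFullyNormalized (P' ⊓ T) := hU ▸ hU'
  have hc' : G.IsCentric P' := H85.centric_of_isConj hc he.isConj
  have : Finite P' := H85.finite_of_le (hP'R.trans hRS)
  -- elements of `T` centralizing the new part and normalizing `P'` lie in `P'`
  have hin : ∀ t ∈ T, t ∈ centralizerIn T (P' ⊓ T) →
      t ∈ Subgroup.normalizer (P' : Set Ω) → t ∈ P' := by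
    intro t ht htc htn
    set k : MulAut P' := H85.conjAut R P' ⟨t, hTR ht, htn⟩ with hk
    have hkI : k ∈ Cfsg.Inn P' := by
      have hkG : k ∈ G.autGroup P' := H85.autInducedBy_le_autGroup G hP'R
        (H85.conjAut_range R P' ▸ ⟨_, rfl⟩)
      have hkG' : MulAut.congr e.symm k ∈ G.autGroup P := (H85.mem_autGroup hPR).2
        ((((he).trans ((H85.mem_autGroup hP'R).1 hkG)).trans he.symm).congr fun _ => rfl)
      have hkf : MulAut.congr e.symm k ∈ fixTriv (P ⊓ T) P := by
        refine ⟨fun x hx => ?_, fun x => ?_⟩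
        · have hy : (e x : Ω) ∈ P' ⊓ T := ⟨(e x).2, (d.mapT heF x).2 hx.2⟩
          show e.symm (k (e x)) = x
          rw [show k (e x) = e x from Subtype.ext (by
            show t * (e x : Ω) * t⁻¹ = _
            rw [← (H85.mem_centralizerIn.1 htc).2 _ hy, mul_inv_cancel_right]),
            e.symm_apply_apply]
        · refine ⟨P.mul_mem (P.inv_mem x.2) (e.symm (k (e x))).2, ?_⟩
          refine (d.mapT heF (x⁻¹ * e.symm (k (e x)))).1 ?_
          show ((e (x⁻¹ * e.symm (k (e x))) : P') : Ω) ∈ T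
          rw [map_mul, map_inv, e.apply_symm_apply]
          show (e x : Ω)⁻¹ * (t * (e x : Ω) * t⁻¹) ∈ T
          rw [show (e x : Ω)⁻¹ * (t * (e x : Ω) * t⁻¹) =
            ((e x : Ω)⁻¹ * t * (e x : Ω)) * t⁻¹ by group]
          exact T.mul_mem (d.conjT' (hP'R.trans hRS (e x).2) ht) (T.inv_mem ht)
      obtain ⟨z, hz⟩ := hstab _ hkG' hkf
      refine ⟨e z, MulEquiv.ext fun y => ?_⟩
      obtain ⟨x, rfl⟩ := e.surjective y
      have h1 : e.symm (k (e x)) = z * x * z⁻¹ := (DFunLike.congr_fun hz x).symm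
      rw [MulEquiv.symm_apply_eq, map_mul, map_mul, map_inv] at h1
      exact h1.symm
    exact H85.mem_of_induces_inner hc' (hTR ht) hkI fun x => rfl
  have hC : centralizerIn T (P' ⊓ T) ≤ P' := by
    intro t₀ ht₀
    by_contra hn
    set C := centralizerIn T (P' ⊓ T) with hCdef
    have hW : P' ⊔ C ≤ R := sup_le hP'R ((H85.centralizerIn_le _).trans hTR)
    have hlt : P' < P' ⊔ C := lt_of_le_of_ne le_sup_left fun h =>
      hn (h.symm ▸ Subgroup.mem_sup_right ht₀)
    obtain ⟨g, hg, hgN, hgP⟩ := H85.exists_normalizing hRp hW hlt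
    have hnC : P' ≤ Subgroup.normalizer (C : Set Ω) := fun x hx => by
      have : Finite C := H85.finite_of_le ((H85.centralizerIn_le _).trans d.le_base)
      have hxN := (norm_inf d (hP'R.trans hRS) (H85.le_normalizerIn (hP'R.trans hRS) hx)).2
      refine H85.mem_normalizer_of_conj fun c hc'' => H85.mem_centralizerIn.2
        ⟨d.conjT (hP'R.trans hRS hx) hc''.1, fun u hu => ?_⟩
      have h1 := (H85.mem_centralizerIn.1 hc'').2 _ (H85.conj_mem_of_mem_normalizer' hxN hu)
      calc u * (x * c * x⁻¹) = x * ((x⁻¹ * u * x) * c) * x⁻¹ := by group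
        _ = x * (c * (x⁻¹ * u * x)) * x⁻¹ := by rw [h1]
        _ = x * c * x⁻¹ * u := by group
    have hg' : g ∈ ((P' : Set Ω) * (C : Set Ω) : Set Ω) := by
      rw [← Subgroup.coe_mul_of_left_le_normalizer_right P' C hnC]
      exact hg
    obtain ⟨x, hx, c, hc'', rfl⟩ := hg'
    have hcN : c ∈ Subgroup.normalizer (P' : Set Ω) := by
      have h1 := (Subgroup.normalizer (P' : Set Ω)).mul_mem
        ((Subgroup.normalizer (P' : Set Ω)).inv_mem (Subgroup.le_normalizer hx)) hgN
      rwa [inv_mul_cancel_left] at h1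
    exact hgP (P'.mul_mem hx (hin c hc''.1 hc'' hcN))
  have hCU : centralizerIn T (P' ⊓ T) ≤ P' ⊓ T := fun t ht => ⟨hC ht, ht.1⟩
  have hcent : E.IsCentric (P' ⊓ T) := by
    refine ⟨inf_le_right, fun V hV t ht => ?_⟩
    obtain ⟨χ, hχ, hχr⟩ := H85.isConj_symm hV
    have hχG : H85.IsFIso G (H85.isoOf χ hχ hχr) := hEG _ hχ
    set ε := H85.isoOf χ hχ hχr with hε
    obtain ⟨ψ, hψ, hext⟩ :=
      H85.receptive_extend (H85.receptive_of_fullyNormalized hRp hG hU'c) hχG
    have htC : t ∈ centralizerIn R V := ⟨hTR ht.1, ht.2⟩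
    have htX := H85.centralizerIn_le_extender (S := R) V
      ((P' ⊓ T).subtype.comp ε.toMonoidHom) htC
    have hVX := H85.le_extender hχG.left_le fun x => H85.map_mem hχG x
    have hψF := hGF _ hψ
    have h1 : ψ ⟨t, htX⟩ ∈ centralizerIn R (P' ⊓ T) :=
      H85.extend_maps_centralizer (e := ε) hVX (fun x => hext x x.2 _) (H85.map_mem hψ _) htC
    have h2 : ψ ⟨t, htX⟩ ∈ P' ⊓ T := hCU ⟨(d.mapT hψF _).2 ht.1, h1.2⟩
    obtain ⟨v, hv⟩ := ε.surjective ⟨_, h2⟩
    have h3 : ψ ⟨t, htX⟩ = ψ ⟨(v : Ω), hVX v.2⟩ := by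
      rw [hext v v.2]
      exact (congrArg Subtype.val hv).symm
    have h4 : t = (v : Ω) := congrArg Subtype.val (G.injective_of_mem hψ h3)
    exact h4 ▸ v.2
  obtain ⟨eU, heU, -⟩ := exists_eU d heF.symm
  exact centric_of_conj d.hE.1 hcent heU.isConj

/-- At the base and at the essential subgroups of a slice the part in `T` is `E`-centric. -/
theorem IsSlice.centric_special {d : Data p F E} {R : Subgroup Ω} {G : FusionSystem R}
    (h : IsSlice d G) {P : Subgroup Ω} (hP : P = R ∨ G.IsEssential p P) :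
    E.IsCentric (P ⊓ T) := by
  have := d.finT
  rcases hP with rfl | hP
  · rw [inf_eq_right.2 h.leT]
    exact H85.centric_top E
  · have : Finite R := H85.finite_of_le h.leS
    exact centric_of_radical d h.leT h.leS h.sat h.sub h.hasE hP.1
      (H85.isRadical_of_isEssential (d.hS.to_le h.leS) hP)

end H89.Bal
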